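import Mathlib
import Cfsg.Prelude
import Cfsg.Agent.Lib.SFourFree.Rigid
import Cfsg.Agent.Lib.Coprime.Sylow
import Cfsg.Agent.Lib.Transfer.Criteria

/-!
Groups in which every proper subgroup of order divisible by `q`, not a `q`-group, has order
divisible by `p`: generalities, and the case of a normal `q`-complement.
-/

set_option autoImplicit false

namespace Cfsg.Agent.Lib.MixedCover

open Subgroup

universe u

variable {G : Type u} [Group G] {p q : ℕ}

/-- `p` divides the order of every proper subgroup of order divisible by `q` that is not a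
`q`-group. -/
def Mix (p q : ℕ) (G : Type u) [Group G] : Prop :=
  ∀ H : Subgroup G, H ≠ ⊤ → ¬ IsPGroup q H → q ∣ Nat.card H → p ∣ Nat.card H

/-- Only `p` and `q` divide the order. -/
def TwoPrimes (p q : ℕ) (G : Type u) [Group G] : Prop :=
  ∀ r : ℕ, r.Prime → r ∣ Nat.card G → r = p ∨ r = q

theorem card_sup_dvd [Finite G] {A B : Subgroup G} (hB : B ≤ normalizer (A : Set G)) :
    Nat.card ↥(A ⊔ B) ∣ Nat.card A * Nat.card B :=
  ⟨_, (SFourFree.card_sup_mul_card_inf hB).symm⟩

/-- A subgroup of order divisible by `q` and not by `p` is a `q`-group. -/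
theorem Mix.isPGroup (hmix : Mix p q G) (hpG : p ∣ Nat.card G) {H : Subgroup G}
    (hqH : q ∣ Nat.card H) (hpH : ¬ p ∣ Nat.card H) : IsPGroup q H :=
  by_contra fun h => hpH (hmix H (fun e => hpH (by rw [e, Subgroup.card_top]; exact hpG)) h hqH)

theorem dvd_card_of_ne_bot [Finite G] [Fact q.Prime] {Q : Subgroup G} (hQ : IsPGroup q Q)
    (hne : Q ≠ ⊥) : q ∣ Nat.card Q := by
  obtain ⟨k, hk⟩ := IsPGroup.iff_card.mp hQ
  rw [hk]
  refine dvd_pow_self q fun e => hne ?_
  rw [e, pow_zero] at hk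
  exact Subgroup.eq_bot_of_card_eq Q hk

theorem not_dvd_card_of_isPGroup [Finite G] (hp : p.Prime) [Fact q.Prime] (hpq : p ≠ q)
    {Q : Subgroup G} (hQ : IsPGroup q Q) : ¬ p ∣ Nat.card Q := by
  obtain ⟨k, hk⟩ := IsPGroup.iff_card.mp hQ
  rw [hk]
  exact fun h => hpq ((Nat.prime_dvd_prime_iff_eq hp Fact.out).mp (hp.dvd_of_dvd_pow h))

/-- In the normalizer of a nontrivial `q`-subgroup every element of order prime to `p` is a
`q`-element. -/
theorem Mix.eq_of_prime_mem_normalizer [Finite G] (hp : p.Prime) [Fact q.Prime] (hpq : p ≠ q)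
    (hmix : Mix p q G) (hpG : p ∣ Nat.card G) {Q : Subgroup G} (hQ : IsPGroup q Q) (hne : Q ≠ ⊥)
    {x : G} (hx : x ∈ normalizer (Q : Set G)) (hr : (orderOf x).Prime) :
    orderOf x = p ∨ orderOf x = q := by
  by_contra h
  push Not at h
  have hle : zpowers x ≤ normalizer (Q : Set G) := zpowers_le.mpr hx
  have hpH : ¬ p ∣ Nat.card ↥(Q ⊔ zpowers x) := fun hd => by
    rcases hp.dvd_mul.mp (hd.trans (card_sup_dvd hle)) with h1 | h1
    · exact not_dvd_card_of_isPGroup hp hpq hQ h1
    · rw [Nat.card_zpowers] at h1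
      exact h.1 ((Nat.prime_dvd_prime_iff_eq hp hr).mp h1).symm
  have hH : IsPGroup q ↥(Q ⊔ zpowers x) := hmix.isPGroup hpG
    ((dvd_card_of_ne_bot hQ hne).trans (Subgroup.card_dvd_of_le le_sup_left)) hpH
  exact not_dvd_card_of_isPGroup hr h.2 hH
    ((Nat.card_zpowers x ▸ Subgroup.card_dvd_of_le (le_sup_right : zpowers x ≤ Q ⊔ zpowers x)))

/-- An element of odd order normalizing a nontrivial `q`-subgroup is a `p`-element. -/
theorem Mix.exists_orderOf_eq [Finite G] (hp : p.Prime) [Fact q.Prime] (hpq : p ≠ q)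
    (hmix : Mix p q G) (hpG : p ∣ Nat.card G) {Q : Subgroup G} (hQ : IsPGroup q Q) (hne : Q ≠ ⊥)
    {x : G} (hx : x ∈ normalizer (Q : Set G)) (hxq : (orderOf x).Coprime q) :
    ∃ k, orderOf x = p ^ k := by
  refine ⟨(orderOf x).primeFactorsList.length, ?_⟩
  refine Nat.eq_prime_pow_of_unique_prime_dvd (orderOf_pos x).ne' fun {r} hr hrd => ?_
  have ho : orderOf (x ^ (orderOf x / r)) = r := orderOf_pow_orderOf_div (orderOf_pos x).ne' hrd
  rcases hmix.eq_of_prime_mem_normalizer hp hpq hpG hQ hne (pow_mem hx _) (by rw [ho]; exact hr)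
    with h | h
  · exact ho.symm.trans h
  · exact absurd (hxq.coprime_dvd_left hrd) (by
      rw [← ho, h]; exact (Nat.Prime.coprime_iff_not_dvd Fact.out).not.mpr (not_not.mpr dvd_rfl))

/-- The fixed points of a `p`-element on a subgroup it normalizes are congruent to its order. -/
theorem card_modEq_inf_centralizer [Finite G] [Fact p.Prime] {x : G} (hx : ∃ k, orderOf x = p ^ k)
    {U : Subgroup G} (hxU : x ∈ normalizer (U : Set G)) :
    Nat.card U ≡ Nat.card ↥(U ⊓ centralizer ({x} : Set G)) [MOD p] := by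
  letI : MulAction (zpowers x) U :=
    { smul := fun g u => ⟨(g : G) * u * (g : G)⁻¹,
        (Subgroup.mem_normalizer_iff.mp ((zpowers_le.mpr hxU) g.2) u).mp u.2⟩
      one_smul := fun u => Subtype.ext (show (1 : G) * u * (1 : G)⁻¹ = u by simp)
      mul_smul := fun g h u => Subtype.ext
        (show (g * h : G) * u * (g * h : G)⁻¹ = (g : G) * ((h : G) * u * (h : G)⁻¹) * (g : G)⁻¹ by
          group) }
  obtain ⟨k, hk⟩ := hx
  have hP : IsPGroup p (zpowers x) := IsPGroup.of_card (n := k) (by rw [Nat.card_zpowers, hk])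
  refine (hP.card_modEq_card_fixedPoints (α := U)).trans (congrArg (· % p) (Nat.card_congr ?_))
  refine
    { toFun := fun u => ⟨(u : U), (u : U).2, mem_centralizer_singleton_iff.mpr ?_⟩
      invFun := fun u => ⟨⟨u, u.2.1⟩, fun g => ?_⟩
      left_inv := fun u => rfl
      right_inv := fun u => rfl }
  · have := congrArg Subtype.val (u.2 ⟨x, mem_zpowers x⟩)
    exact (mul_inv_eq_iff_eq_mul.mp this).symm
  · obtain ⟨n, hn⟩ := g.2
    refine Subtype.ext ?_
    show (g : G) * (u : G) * (g : G)⁻¹ = u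
    rw [← hn]
    have h : Commute (u : G) x := mem_centralizer_singleton_iff.mp u.2.2
    rw [(h.zpow_right n).symm.eq, mul_inv_cancel_right]

/-- A `p`-element normalizing a subgroup of order at most `p + 1`, prime to `p`, centralizes it or
has no fixed point on it. -/
theorem centralizes_or_fpf [Finite G] [Fact p.Prime] {x : G} (hx : ∃ k, orderOf x = p ^ k)
    {U : Subgroup G} (hxU : x ∈ normalizer (U : Set G)) (hU : Nat.card U ≤ p + 1) :
    U ≤ centralizer ({x} : Set G) ∨
      (Nat.card U = p + 1 ∧ U ⊓ centralizer ({x} : Set G) = ⊥) := by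
  have hmod := card_modEq_inf_centralizer hx hxU
  have hpp : p.Prime := Fact.out
  set C := U ⊓ centralizer ({x} : Set G) with hC
  rcases eq_or_lt_of_le (inf_le_left : C ≤ U) with h | h
  · exact Or.inl (inf_eq_left.mp h)
  · refine Or.inr ?_
    have hlt : Nat.card C < Nat.card U :=
      Set.ncard_lt_ncard (SetLike.coe_ssubset_coe.mpr h) (Set.toFinite _)
    have hpos : 0 < Nat.card C := Nat.card_pos
    have hdvd : p ∣ Nat.card U - Nat.card C := (Nat.modEq_iff_dvd' hlt.le).mp hmod.symm
    have hle := Nat.le_of_dvd (Nat.sub_pos_of_lt hlt) hdvd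
    exact ⟨by omega, Subgroup.eq_bot_of_card_eq _ (by omega)⟩

/-- A normal `q`-complement leaves no room for a third prime. -/
theorem Mix.twoPrimes_of_hasNormalPComplement [Finite G] (hp : p.Prime) [Fact q.Prime]
    (hpq : p ≠ q) (hmix : Mix p q G) (hpG : p ∣ Nat.card G) (hqG : q ∣ Nat.card G)
    (h : Cfsg.HasNormalPComplement q G) : TwoPrimes p q G := by
  intro r hr hrG
  by_contra hne
  push Not at hne
  have := Fact.mk hr
  obtain ⟨Q, K, hK, hc⟩ := h
  have hrK : r ∣ Nat.card K := by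
    rw [← hc.card_mul_card] at hrG
    exact (hr.dvd_mul.mp hrG).resolve_right (not_dvd_card_of_isPGroup hr hne.2 Q.2)
  have hcop : (Nat.card (Q : Subgroup G)).Coprime (Nat.card K) := by
    rw [← hc.index_eq_card]
    exact Q.card_coprime_index
  have hnil : Group.IsNilpotent (Q : Subgroup G) := Q.2.isNilpotent
  obtain ⟨R, hR⟩ := Coprime.exists_invariant_sylow (p := r) (K := K) (A := (Q : Subgroup G))
    (by rw [normalizer_eq_top]; exact le_top) hcop (Or.inl inferInstance)
  have hR' : IsPGroup r ↥((R : Subgroup K).map K.subtype) := R.2.map _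
  have hqQ : q ∣ Nat.card (Q : Subgroup G) := Q.dvd_card_of_dvd_card hqG
  have hpH : ¬ p ∣ Nat.card ↥((R : Subgroup K).map K.subtype ⊔ (Q : Subgroup G)) := fun hd => by
    rcases hp.dvd_mul.mp (hd.trans (card_sup_dvd hR)) with h1 | h1
    · exact not_dvd_card_of_isPGroup hp hne.1.symm hR' h1
    · exact not_dvd_card_of_isPGroup hp hpq Q.2 h1
  have hH := hmix.isPGroup hpG (hqQ.trans (Subgroup.card_dvd_of_le le_sup_right)) hpH
  refine not_dvd_card_of_isPGroup hr hne.2 hH (dvd_trans ?_ (Subgroup.card_dvd_of_le le_sup_left))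
  rw [Subgroup.card_subtype]
  exact R.dvd_card_of_dvd_card hrK

/-- The case of a small Sylow `q`-subgroup. -/
theorem Mix.twoPrimes_of_lt [Finite G] (hp : p.Prime) [Fact q.Prime] (hpq : p ≠ q)
    (hmix : Mix p q G) (hpG : p ∣ Nat.card G) (hqG : q ∣ Nat.card G)
    (hlt : q ^ (Nat.card G).factorization q - 1 < p) : TwoPrimes p q G := by
  have := Fact.mk hp
  refine hmix.twoPrimes_of_hasNormalPComplement hp hpq hpG hqG
    (Transfer.hasNormalPComplement_iff_locallyPTrivial.mpr fun Q hQ x hx hxq => ?_)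
  rcases eq_or_ne Q ⊥ with rfl | hne
  · exact mem_centralizer_iff.mpr fun h hh => by simp [Subgroup.mem_bot.mp hh]
  have hle : Nat.card Q ≤ q ^ (Nat.card G).factorization q := by
    obtain ⟨S, hS⟩ := hQ.exists_le_sylow
    rw [← S.card_eq_multiplicity]
    exact Subgroup.card_le_of_le hS
  rcases centralizes_or_fpf (hmix.exists_orderOf_eq hp hpq hpG hQ hne hx hxq) hx (by omega) with h | ⟨h, -⟩
  · exact mem_centralizer_iff.mpr fun y hy => mem_centralizer_singleton_iff.mp (h hy)
  · omega

end Cfsg.Agent.Lib.MixedCover
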