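import Mathlib
import Cfsg.Agent.Lib.MixedCover.Basic

/-!
The configuration left over: simple, `p + 1` the order of an elementary abelian Sylow
`2`-subgroup `Q`, and a `p`-element `x` transitive on the involutions of `Q`.
-/

set_option autoImplicit false

namespace Cfsg.Agent.Lib.MixedCover

open Subgroup

universe u

variable {G : Type u} [Group G] [Finite G] {p : ℕ}

/-- The configuration. -/
structure Data (p : ℕ) (Q : Subgroup G) (x : G) : Prop where
  prime : p.Prime
  odd : p ≠ 2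
  mix : Mix p 2 G
  dvd : p ∣ Nat.card G
  simple : IsSimpleGroup G
  third : ∃ r : ℕ, r.Prime ∧ r ∣ Nat.card G ∧ r ≠ p ∧ r ≠ 2
  two_part : ∀ U : Subgroup G, IsPGroup 2 U → Nat.card U ≤ p + 1
  abelian : ∀ P : Sylow p G, IsMulCommutative P
  sub : ∀ H : Subgroup G, H ≠ ⊤ → 2 ∣ Nat.card H → TwoPrimes p 2 H
  qgroup : IsPGroup 2 Q
  card : Nat.card Q = p + 1
  xpow : ∃ k, orderOf x = p ^ k
  xnorm : x ∈ normalizer (Q : Set G)
  fpf : Q ⊓ centralizer ({x} : Set G) = ⊥

omit [Finite G] in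
theorem mem_normalizer_sup {A B : Subgroup G} {g : G} (hA : g ∈ normalizer (A : Set G))
    (hB : g ∈ normalizer (B : Set G)) : g ∈ normalizer ((A ⊔ B : Subgroup G) : Set G) := by
  have key : ∀ g : G, g ∈ normalizer (A : Set G) → g ∈ normalizer (B : Set G) →
      A ⊔ B ≤ (A ⊔ B).comap (MulAut.conj g).toMonoidHom := fun g hA hB => sup_le
    (fun a ha => mem_sup_left ((Subgroup.mem_normalizer_iff.mp hA a).mp ha))
    (fun b hb => mem_sup_right ((Subgroup.mem_normalizer_iff.mp hB b).mp hb))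
  rw [Subgroup.mem_normalizer_iff]
  refine fun z => ⟨fun hz => key g hA hB hz, fun hz => ?_⟩
  have h : g⁻¹ * (g * z * g⁻¹) * g⁻¹⁻¹ ∈ A ⊔ B := key g⁻¹ (inv_mem hA) (inv_mem hB) hz
  simpa [mul_assoc] using h

namespace Data

variable {Q : Subgroup G} {x : G} (D : Data p Q x)
include D

theorem commute_of_isPGroup {U : Subgroup G} (hU : IsPGroup p U) {a b : G} (ha : a ∈ U)
    (hb : b ∈ U) : Commute a b := by
  obtain ⟨P, hP⟩ := hU.exists_le_sylow
  have := (D.abelian P).is_comm.comm ⟨a, hP ha⟩ ⟨b, hP hb⟩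
  exact congrArg Subtype.val this

theorem Q_ne_bot : Q ≠ ⊥ := fun e => by
  have h := D.card
  rw [e, Subgroup.card_bot] at h
  have := D.prime.pos
  omega

theorem exists_mem_ne : ∃ t ∈ Q, t ≠ 1 := by
  obtain ⟨⟨t, ht⟩, h⟩ := (Subgroup.ne_bot_iff_exists_ne_one).mp D.Q_ne_bot
  exact ⟨t, ht, fun e => h (Subtype.ext e)⟩

theorem center_eq_bot : center G = ⊥ := by
  have := D.simple
  refine (Subgroup.Normal.eq_bot_or_eq_top inferInstance).resolve_right fun h => ?_
  obtain ⟨t, ht, ht1⟩ := D.exists_mem_ne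
  have : t ∈ Q ⊓ centralizer ({x} : Set G) := ⟨ht, mem_centralizer_singleton_iff.mpr
    (Subgroup.mem_center_iff.mp (h ▸ Subgroup.mem_top x) t)⟩
  rw [D.fpf, Subgroup.mem_bot] at this
  exact ht1 this

theorem centralizer_ne_top {y : G} (hy : y ≠ 1) : centralizer ({y} : Set G) ≠ ⊤ := fun h => hy <| by
  have : y ∈ center G := Subgroup.mem_center_iff.mpr fun g =>
    mem_centralizer_singleton_iff.mp (h ▸ Subgroup.mem_top g)
  rwa [D.center_eq_bot, Subgroup.mem_bot] at this

theorem centralizes {y t : G} (hy : ∃ k, orderOf y = p ^ k) (hyQ : y ∈ normalizer (Q : Set G))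
    (ht : t ∈ Q) (ht1 : t ≠ 1) (hyt : Commute t y) : y ∈ centralizer (Q : Set G) := by
  have := Fact.mk D.prime
  rcases centralizes_or_fpf hy hyQ D.card.le with h | ⟨-, h⟩
  · exact mem_centralizer_iff.mpr fun q hq => mem_centralizer_singleton_iff.mp (h hq)
  · exact absurd (Subgroup.mem_bot.mp (h ▸ Subgroup.mem_inf.mpr
      ⟨ht, mem_centralizer_singleton_iff.mpr hyt.eq⟩)) ht1

theorem pow_pPower (i : ℕ) : ∃ k, orderOf (x ^ i) = p ^ k := by
  obtain ⟨k, hk⟩ := D.xpow
  obtain ⟨l, -, hl⟩ := (Nat.dvd_prime_pow D.prime).mp (hk ▸ orderOf_pow_dvd i)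
  exact ⟨l, hl⟩

theorem not_mem_centralizer : x ∉ centralizer (Q : Set G) := fun h => by
  obtain ⟨t, ht, ht1⟩ := D.exists_mem_ne
  have : t ∈ Q ⊓ centralizer ({x} : Set G) :=
    ⟨ht, mem_centralizer_singleton_iff.mpr (mem_centralizer_iff.mp h t ht)⟩
  rw [D.fpf, Subgroup.mem_bot] at this
  exact ht1 this

theorem orbit {s t : G} (hs : s ∈ Q) (hs1 : s ≠ 1) (ht : t ∈ Q) (ht1 : t ≠ 1) :
    ∃ i : ℕ, x ^ i * s * (x ^ i)⁻¹ = t := by
  have hconj : ∀ i : ℕ, x ^ i * s * (x ^ i)⁻¹ ∈ (Q : Set G) \ {1} := fun i =>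
    ⟨(Subgroup.mem_normalizer_iff.mp (pow_mem D.xnorm i) s).mp hs,
      fun e => hs1 (conj_eq_one_iff.mp (Set.mem_singleton_iff.mp e))⟩
  have hinj : Set.InjOn (fun i : ℕ => x ^ i * s * (x ^ i)⁻¹) (Set.Iio p) := by
    intro i hi j hj hij
    wlog hle : i ≤ j generalizing i j
    · exact (this hj hi hij.symm (le_of_not_ge hle)).symm
    by_contra hne
    have hc : Commute s (x ^ (j - i)) := by
      have e : x ^ j = x ^ i * x ^ (j - i) := by rw [← pow_add, Nat.add_sub_cancel' hle]
      simp only at hij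
      rw [e, mul_inv_rev] at hij
      have h2 : s = x ^ (j - i) * s * (x ^ (j - i))⁻¹ := by
        have h3 := congrArg (fun g => (x ^ i)⁻¹ * g * x ^ i) hij
        simpa [mul_assoc] using h3
      exact (mul_inv_eq_iff_eq_mul.mp h2.symm).symm
    have h := D.centralizes (D.pow_pPower _) (pow_mem D.xnorm _) hs hs1 hc
    obtain ⟨k, hk⟩ := D.xpow
    have hcop : (orderOf x).Coprime (j - i) := by
      rw [hk]
      refine Nat.Coprime.pow_left _ (D.prime.coprime_iff_not_dvd.mpr fun hd => ?_)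
      have := Nat.le_of_dvd (Nat.sub_pos_of_lt (lt_of_le_of_ne hle hne)) hd
      have : j < p := hj
      omega
    obtain ⟨m, hm⟩ := exists_pow_eq_self_of_coprime (n := j - i) (x := x) hcop.symm
    exact D.not_mem_centralizer (hm ▸ pow_mem h m)
  have himg : (fun i : ℕ => x ^ i * s * (x ^ i)⁻¹) '' Set.Iio p = (Q : Set G) \ {1} := by
    refine Set.eq_of_subset_of_ncard_le ?_ ?_ (Set.toFinite _)
    · rintro _ ⟨i, -, rfl⟩
      exact hconj i
    · rw [hinj.ncard_image, Set.ncard_diff_singleton_of_mem (one_mem Q), ← Nat.card_coe_set_eq,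
        show Nat.card (Q : Set G) = p + 1 from D.card, ← Finset.coe_Iio, Set.ncard_coe_finset,
        Nat.card_Iio]
      omega
  obtain ⟨i, -, hi⟩ : t ∈ (fun i : ℕ => x ^ i * s * (x ^ i)⁻¹) '' Set.Iio p := by
    rw [himg]; exact ⟨ht, fun e => ht1 (Set.mem_singleton_iff.mp e)⟩
  exact ⟨i, hi⟩

theorem mul_self {t : G} (ht : t ∈ Q) : t * t = 1 := by
  have := Fact.mk Nat.prime_two
  rcases eq_or_ne t 1 with rfl | ht1
  · exact one_mul 1
  obtain ⟨⟨e, he⟩, hord⟩ := exists_prime_orderOf_dvd_card' (G := Q) 2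
    (dvd_card_of_ne_bot D.qgroup D.Q_ne_bot)
  rw [Subgroup.orderOf_mk] at hord
  have he2 : e * e = 1 := by
    rw [← pow_two, ← hord, pow_orderOf_eq_one]
  obtain ⟨i, rfl⟩ := D.orbit he (fun h => by simp [h] at hord) ht ht1
  rw [show x ^ i * e * (x ^ i)⁻¹ * (x ^ i * e * (x ^ i)⁻¹) = x ^ i * (e * e) * (x ^ i)⁻¹ by group,
    he2, mul_one, mul_inv_cancel]

theorem commute {a b : G} (ha : a ∈ Q) (hb : b ∈ Q) : Commute a b := by
  have h1 := D.mul_self (mul_mem ha hb)
  have h2 := D.mul_self ha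
  have h3 := D.mul_self hb
  show a * b = b * a
  calc a * b = (b * a)⁻¹ * ((b * a) * (a * b)) := by group
    _ = (b * a)⁻¹ * (b * (a * a) * b) := by group
    _ = a⁻¹ * b⁻¹ := by rw [h2, mul_one, h3, mul_one, mul_inv_rev]
    _ = a * b := by rw [inv_eq_of_mul_eq_one_right h2, inv_eq_of_mul_eq_one_right h3]
    _ = b * a := by
      rw [← inv_eq_of_mul_eq_one_right h1, mul_inv_rev, inv_eq_of_mul_eq_one_right h2,
        inv_eq_of_mul_eq_one_right h3]

theorem two_dvd {H : Subgroup G} {t : G} (ht : t ∈ Q) (ht1 : t ≠ 1) (htH : t ∈ H) :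
    2 ∣ Nat.card H := by
  have := Fact.mk Nat.prime_two
  have := Subgroup.card_dvd_of_le (zpowers_le.mpr htH)
  rwa [Nat.card_zpowers, orderOf_eq_prime (by rw [pow_two]; exact D.mul_self ht) ht1] at this

/-- The elements of odd order centralizing an involution `t` of `Q` form an abelian `p`-group,
with `Q` as a complement in the centralizer of `t`. -/
theorem exists_odd {t : G} (ht : t ∈ Q) (ht1 : t ≠ 1) :
    ∃ K : Subgroup G, IsPGroup p K ∧ (∀ y, y ∈ K ↔ Commute y t ∧ ¬ 2 ∣ orderOf y) ∧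
      ∀ g, Commute g t → ∃ k ∈ K, ∃ q ∈ Q, k * q = g := by
  have := Fact.mk Nat.prime_two
  have := Fact.mk D.prime
  set C := centralizer ({t} : Set G) with hC
  have htt : t ^ 2 = 1 := by rw [pow_two]; exact D.mul_self ht
  have hloc : Transfer.LocallyPTrivial 2 C := by
    intro U hU y hy hyo
    set U' := U.map C.subtype ⊔ zpowers t with hU'
    have hyt : Commute (y : G) t := mem_centralizer_singleton_iff.mp y.2
    have hUn : zpowers t ≤ normalizer (U.map C.subtype : Set G) := by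
      rw [zpowers_le, Subgroup.mem_normalizer_iff]
      intro u
      constructor
      · rintro ⟨v, hv, rfl⟩
        have : Commute (v : G) t := mem_centralizer_singleton_iff.mp v.2
        rw [show t * C.subtype v * t⁻¹ = C.subtype v from by
          show t * (v : G) * t⁻¹ = v; rw [this.symm.eq, mul_inv_cancel_right]]
        exact ⟨v, hv, rfl⟩
      · rintro ⟨v, hv, hvu⟩
        have : Commute (v : G) t := mem_centralizer_singleton_iff.mp v.2
        have : u = (v : G) := by
          have hvu' : (v : G) = t * u * t⁻¹ := hvu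
          calc u = t⁻¹ * (t * u * t⁻¹) * t := by group
            _ = t⁻¹ * (v : G) * t := by rw [hvu']
            _ = v := by rw [mul_assoc, this.eq, inv_mul_cancel_left]
        exact ⟨v, hv, this.symm⟩
    have hU'2 : IsPGroup 2 U' := by
      rw [hU', sup_comm]
      refine (IsPGroup.of_card (n := 1) ?_).to_sup_of_normal_right' (hU.map _) hUn
      rw [Nat.card_zpowers, orderOf_eq_prime htt ht1, pow_one]
    have hyn : (y : G) ∈ normalizer (U' : Set G) := by
      have h1 : (y : G) ∈ normalizer (U.map C.subtype : Set G) :=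
        le_normalizer_map C.subtype ⟨y, hy, rfl⟩
      have h2 : (y : G) ∈ normalizer (zpowers t : Set G) :=
        centralizer_le_normalizer _ (mem_centralizer_iff.mpr fun h ⟨n, hn⟩ => by
          rw [← hn]; exact (hyt.zpow_right n).symm.eq)
      exact mem_normalizer_sup h1 h2
    rcases centralizes_or_fpf (D.mix.exists_orderOf_eq D.prime D.odd D.dvd hU'2
      (fun e => ht1 (Subgroup.mem_bot.mp (e ▸ mem_sup_right (mem_zpowers t)))) hyn
      (by rwa [Subgroup.orderOf_coe])) hyn (D.two_part _ hU'2) with h | ⟨-, h⟩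
    · refine mem_centralizer_iff.mpr fun u hu => Subtype.ext ?_
      exact mem_centralizer_singleton_iff.mp (h (mem_sup_left ⟨u, hu, rfl⟩))
    · exact absurd (Subgroup.mem_bot.mp (h ▸ Subgroup.mem_inf.mpr
        ⟨mem_sup_right (mem_zpowers t), mem_centralizer_singleton_iff.mpr hyt.symm.eq⟩)) ht1
  obtain ⟨S, M, hM, hc⟩ := Transfer.hasNormalPComplement_iff_locallyPTrivial.mpr hloc
  have hidx : ∃ n, M.index = 2 ^ n := by
    rw [hc.symm.index_eq_card]
    exact IsPGroup.iff_card.mp S.2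
  obtain ⟨n, hn⟩ := hidx
  have hMcop : (Nat.card M).Coprime 2 := by
    have h := S.card_coprime_index
    rw [hc.index_eq_card] at h
    rcases Nat.eq_zero_or_pos n with h0 | h0
    · have hC2 : ¬ IsPGroup 2 C → True := fun _ => trivial
      have h2C : 2 ∣ Nat.card C := D.two_dvd ht ht1 (mem_centralizer_singleton_iff.mpr rfl)
      have := S.dvd_card_of_dvd_card h2C
      rw [← hc.symm.index_eq_card, hn, h0, pow_zero] at this
      omega
    · rw [← hc.symm.index_eq_card, hn] at h
      exact (Nat.coprime_pow_left_iff h0 _ _).mp h |>.symm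
  have hmem : ∀ y : C, y ∈ M ↔ ¬ 2 ∣ orderOf (y : G) := by
    intro y
    rw [Subgroup.orderOf_coe]
    constructor
    · intro hy
      refine (Nat.prime_two.coprime_iff_not_dvd.mp ?_)
      exact (hMcop.coprime_dvd_left (Subgroup.orderOf_dvd_natCard M hy)).symm
    · intro hy
      refine (QuotientGroup.eq_one_iff y).mp (orderOf_eq_one_iff.mp ?_)
      refine Nat.eq_one_of_dvd_coprimes ?_ (orderOf_map_dvd (QuotientGroup.mk' M) y)
        ((_root_.orderOf_dvd_natCard _).trans (dvd_of_eq hn))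
      exact ((Nat.prime_two.coprime_iff_not_dvd.mpr hy).symm.pow_right n)
  have hMp : IsPGroup p (M.map C.subtype) := by
    refine IsPGroup.of_card (n := (Nat.card M).primeFactorsList.length) ?_
    rw [Subgroup.card_subtype]
    refine Nat.eq_prime_pow_of_unique_prime_dvd Nat.card_pos.ne' fun {r} hr hrd => ?_
    have := Fact.mk hr
    obtain ⟨⟨y, hy⟩, hyo⟩ := exists_prime_orderOf_dvd_card' (G := M) r hrd
    rw [Subgroup.orderOf_mk] at hyo
    have hyn : (y : G) ∈ normalizer (zpowers t : Set G) :=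
      centralizer_le_normalizer _ (mem_centralizer_iff.mpr fun h ⟨n, hn⟩ => by
        rw [← hn]
        exact ((show Commute (y : G) t from mem_centralizer_singleton_iff.mp y.2).zpow_right n).symm.eq)
    rcases D.mix.eq_of_prime_mem_normalizer D.prime D.odd D.dvd
      (Q := zpowers t) (IsPGroup.of_card (n := 1) (by
        rw [Nat.card_zpowers, orderOf_eq_prime htt ht1, pow_one]))
      (by simpa using ht1) hyn (by rwa [Subgroup.orderOf_coe, hyo]) with h | h
    · rwa [Subgroup.orderOf_coe, hyo] at h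
    · exact absurd ((hyo ▸ Subgroup.orderOf_coe y ▸ h : r = 2) ▸ hrd)
        (Nat.prime_two.coprime_iff_not_dvd.mp hMcop.symm)
  refine ⟨M.map C.subtype, hMp, fun y => ⟨?_, fun hy => ?_⟩, fun g hg => ?_⟩
  · rintro ⟨z, hz, rfl⟩
    exact ⟨mem_centralizer_singleton_iff.mp z.2, (hmem z).mp hz⟩
  · exact ⟨⟨y, mem_centralizer_singleton_iff.mpr hy.1.eq⟩, (hmem _).mpr hy.2, rfl⟩
  · have hQC : Q ≤ C := fun q hq => mem_centralizer_singleton_iff.mpr (D.commute hq ht).eq
    have hdis : M ⊓ Q.subgroupOf C = ⊥ := by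
      rw [eq_bot_iff]
      rintro z ⟨hz1, hz2⟩
      by_contra hz
      refine (hmem z).mp hz1 ?_
      have h1 : (z : G) ≠ 1 := fun e => hz (Subgroup.mem_bot.mpr (Subtype.ext e))
      rw [orderOf_eq_prime (by rw [pow_two]; exact D.mul_self hz2) h1]
    have htop : M ⊔ Q.subgroupOf C = ⊤ := by
      apply Subgroup.eq_top_of_card_eq
      have h := SFourFree.card_sup_mul_card_inf (A := M) (B := Q.subgroupOf C)
        (by rw [normalizer_eq_top]; exact le_top)
      rw [hdis, Subgroup.card_bot, mul_one,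
        Nat.card_congr (Subgroup.subgroupOfEquivOfLe hQC).toEquiv, D.card] at h
      refine le_antisymm (Subgroup.card_le_card_group _) ?_
      rw [h, ← Subgroup.card_mul_index M]
      refine Nat.mul_le_mul le_rfl ?_
      rw [hn]
      have hS : Nat.card (S : Subgroup C) = 2 ^ n := by rw [← hc.symm.index_eq_card, hn]
      have := D.two_part ((S : Subgroup C).map C.subtype) (S.2.map _)
      rwa [Subgroup.card_subtype, hS] at this
    obtain ⟨k, hk, q, hq, hkq⟩ := Subgroup.mem_sup_of_normal_left.mp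
      (show (⟨g, mem_centralizer_singleton_iff.mpr hg.eq⟩ : C) ∈ M ⊔ Q.subgroupOf C by
        rw [htop]; exact Subgroup.mem_top _)
    exact ⟨(k : G), ⟨k, hk, rfl⟩, (q : G), hq, congrArg Subtype.val hkq⟩

end Data

end Cfsg.Agent.Lib.MixedCover
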