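import Mathlib
import Cfsg.Agent.Lib.MixedCover.Data
import Cfsg.Agent.Lib.Burnside.Paqb
import Cfsg.Agent.Lib.PSolvable.HallHigman
import Cfsg.Agent.Lib.PSolvable.PSolv

/-!
The odd part of the centralizer of an involution of `Q` centralizes `Q`, except possibly for
`p = 3`.
-/

set_option autoImplicit false

namespace Cfsg.Agent.Lib.MixedCover

open Subgroup

universe u

variable {G : Type u} [Group G] [Finite G] {p : ℕ}

namespace Data

variable {Q : Subgroup G} {x : G} (D : Data p Q x)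
include D

/-- The structure of a proper subgroup containing `Q`. -/
theorem exists_core {M : Subgroup G} (hM : M ≠ ⊤) (hQM : Q ≤ M) :
    ∃ O : Subgroup G, O ≤ M ∧ M ≤ normalizer (O : Set G) ∧ IsPGroup p O ∧
      ∀ m ∈ M, ∃ o ∈ O, ∃ n ∈ M, n ∈ normalizer (Q : Set G) ∧ o * n = m := by
  have := Fact.mk Nat.prime_two
  have := Fact.mk D.prime
  obtain ⟨t, ht, ht1⟩ := D.exists_mem_ne
  have htwo := D.sub M hM (D.two_dvd ht ht1 (hQM ht))
  obtain ⟨a, b, hcard⟩ : ∃ a b : ℕ, Nat.card M = 2 ^ a * p ^ b := by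
    obtain ⟨e, m, hm, he⟩ := Nat.exists_eq_pow_mul_and_not_dvd (Nat.card_pos (α := M)).ne' 2
      Nat.prime_two.ne_one
    have hm0 : m ≠ 0 := fun e => hm (by rw [e]; exact dvd_zero 2)
    refine ⟨e, m.primeFactorsList.length, ?_⟩
    rw [he, ← Nat.eq_prime_pow_of_unique_prime_dvd hm0 fun {r} hr hrd => ?_]
    exact (htwo r hr (he ▸ dvd_mul_of_dvd_right hrd _)).resolve_right fun h => hm (h ▸ hrd)
  have hsol : Group.IsSolvable M :=
    Burnside.isSolvable_of_card_eq_prime_pow_mul Nat.prime_two D.prime hcard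
  set O' := Cfsg.pPrimeCore 2 M with hO'
  have hO'n : O'.Normal := by
    have := PSolvable.pPrimeCore_characteristic (p := 2) (G := M)
    infer_instance
  have hO'p : IsPGroup p O' := by
    have hd : Nat.card O' ∣ p ^ b :=
      Nat.Coprime.dvd_of_dvd_mul_left (Nat.Coprime.pow_right a PSolvable.pPrimeCore_coprime)
        (hcard ▸ Subgroup.card_subgroup_dvd_card O')
    obtain ⟨i, -, hi⟩ := (Nat.dvd_prime_pow D.prime).mp hd
    exact IsPGroup.of_card hi
  -- `Q` is a Sylow subgroup of `M`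
  obtain ⟨S, hS⟩ := (D.qgroup.of_equiv (Subgroup.subgroupOfEquivOfLe hQM).symm).exists_le_sylow
  have hSQ : (S : Subgroup M) = Q.subgroupOf M := by
    refine (Subgroup.eq_of_le_of_card_ge hS ?_).symm
    rw [Nat.card_congr (Subgroup.subgroupOfEquivOfLe hQM).toEquiv, D.card,
      ← Subgroup.card_subtype M (S : Subgroup M)]
    exact D.two_part _ (S.2.map _)
  set π := QuotientGroup.mk' O' with hπ
  set T := S.mapSurjective (QuotientGroup.mk'_surjective O') with hT
  have hps : Cfsg.IsPSolvable 2 (M ⧸ O') := PSolvable.isPSolvable_of_isSolvable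
  have hR := PSolvable.centralizer_pCore_le_of_isPSolvable hps
    PSolvable.pPrimeCore_quotient_eq_bot
  have hTR : (T : Subgroup (M ⧸ O')) ≤ Cfsg.pCore 2 (M ⧸ O') := by
    refine le_trans (fun u hu => mem_centralizer_iff.mpr fun w hw => ?_) hR
    have hw' : w ∈ (T : Subgroup (M ⧸ O')) := PSolvable.pCore_le_sylow T hw
    obtain ⟨u', hu', rfl⟩ := hu
    obtain ⟨w', hw', rfl⟩ := hw'
    rw [hSQ] at hu' hw'
    rw [← map_mul, ← map_mul,
      show w' * u' = u' * w' from Subtype.ext (D.commute hw' hu').eq]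
  have hTn : (T : Subgroup (M ⧸ O')).Normal := by
    rw [le_antisymm hTR (PSolvable.pCore_le_sylow T)]
    have := PSolvable.pCore_characteristic (p := 2) (G := M ⧸ O')
    infer_instance
  set N := (T : Subgroup (M ⧸ O')).comap π with hN
  have hNn : N.Normal := hTn.comap π
  have hSN : (S : Subgroup M) ≤ N := fun u hu => ⟨u, hu, rfl⟩
  have hfr := Sylow.normalizer_sup_eq_top' S hSN
  refine ⟨O'.map M.subtype, Subgroup.map_subtype_le _, ?_, hO'p.map _, fun m hm => ?_⟩
  · intro m hm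
    exact le_normalizer_map M.subtype ⟨⟨m, hm⟩, by
      rw [normalizer_eq_top (H := O')]; exact Subgroup.mem_top _, rfl⟩
  · have hNle : N = O' ⊔ (S : Subgroup M) := by
      rw [hN, show (T : Subgroup (M ⧸ O')) = (S : Subgroup M).map π from rfl,
        Subgroup.comap_map_eq, QuotientGroup.ker_mk', sup_comm]
    have htop : O' ⊔ normalizer ((S : Subgroup M) : Set M) = ⊤ := by
      rw [eq_top_iff, ← hfr, hNle]
      exact sup_le le_sup_right (sup_le le_sup_left (Subgroup.le_normalizer.trans le_sup_right))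
    obtain ⟨o, ho, n, hn, hon⟩ := Subgroup.mem_sup_of_normal_left.mp
      (show (⟨m, hm⟩ : M) ∈ O' ⊔ normalizer ((S : Subgroup M) : Set M) by
        rw [htop]; exact Subgroup.mem_top _)
    refine ⟨o, ⟨o, ho, rfl⟩, n, n.2, ?_, congrArg Subtype.val hon⟩
    have h := le_normalizer_map M.subtype ⟨n, hn, rfl⟩
    rwa [hSQ, Subgroup.subgroupOf_map_subtype, inf_eq_left.mpr hQM] at h

omit [Finite G] D in
theorem conj_odd {y g : G} : ¬ 2 ∣ orderOf (g * y * g⁻¹) ↔ ¬ 2 ∣ orderOf y := by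
  rw [show g * y * g⁻¹ = MulAut.conj g y from rfl,
    MulEquiv.orderOf_eq]

/-- An element normalizing a `p`-group containing `y`, itself a `p`-element, commutes with `y`. -/
theorem commute_x {H : Subgroup G} (hH : IsPGroup p H) (hx : x ∈ normalizer (H : Set G)) {y : G}
    (hy : y ∈ H) : Commute x y := by
  have hle : zpowers x ≤ normalizer (H : Set G) := zpowers_le.mpr hx
  obtain ⟨k, hk⟩ := D.xpow
  have hU : IsPGroup p ↥(H ⊔ zpowers x) := hH.to_sup_of_normal_left'
    (IsPGroup.of_card (n := k) (by rw [Nat.card_zpowers, hk])) hle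
  exact D.commute_of_isPGroup hU (mem_sup_right (mem_zpowers x)) (mem_sup_left hy)

theorem centralizes_of_commute_x {t y : G} (ht : t ∈ Q) (ht1 : t ≠ 1) (hyt : Commute y t)
    (hxy : Commute x y) : y ∈ centralizer (Q : Set G) := by
  refine mem_centralizer_iff.mpr fun s hs => ?_
  rcases eq_or_ne s 1 with rfl | hs1
  · simp
  obtain ⟨i, rfl⟩ := D.orbit ht ht1 hs hs1
  have h : Commute (x ^ i) y := hxy.pow_left i
  exact ((h.mul_left hyt.symm).mul_left h.inv_left).eq

theorem commute_of_odd {t a b : G} (ht : t ∈ Q) (ht1 : t ≠ 1) (ha : Commute a t)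
    (ha' : ¬ 2 ∣ orderOf a) (hb : Commute b t) (hb' : ¬ 2 ∣ orderOf b) : Commute a b := by
  obtain ⟨K, hK, hmem, -⟩ := D.exists_odd ht ht1
  exact D.commute_of_isPGroup hK ((hmem a).mpr ⟨ha, ha'⟩) ((hmem b).mpr ⟨hb, hb'⟩)

theorem exists_mem_pow {t a : G} (ht : t ∈ Q) (ht1 : t ≠ 1) (ha : Commute a t)
    (ha' : ¬ 2 ∣ orderOf a) : ∃ k, a ^ p ^ k = 1 := by
  obtain ⟨K, hK, hmem, -⟩ := D.exists_odd ht ht1
  obtain ⟨k, hk⟩ := hK ⟨a, (hmem a).mpr ⟨ha, ha'⟩⟩
  exact ⟨k, congrArg Subtype.val hk⟩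

/-- The base case: centralizers of subgroups of index two, when these meet pairwise. -/
theorem centralizes_of_hyperplane (h8 : 8 ≤ p + 1) {B : Subgroup G} (hBQ : B ≤ Q)
    (hB : Nat.card B * 2 = p + 1) {y : G} (hy : ∀ b ∈ B, Commute y b) (hy' : ¬ 2 ∣ orderOf y) :
    y ∈ centralizer (Q : Set G) := by
  set S := {y : G | ∃ B : Subgroup G, B ≤ Q ∧ Nat.card B * 2 = p + 1 ∧
    (∀ b ∈ B, Commute y b) ∧ ¬ 2 ∣ orderOf y} with hS
  have hne : ∀ B : Subgroup G, Nat.card B * 2 = p + 1 → ∃ b ∈ B, b ≠ 1 := by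
    intro B hB
    obtain ⟨⟨b, hb⟩, h⟩ := (Subgroup.ne_bot_iff_exists_ne_one (H := B)).mp (fun e => by
      rw [e, Subgroup.card_bot] at hB; omega)
    exact ⟨b, hb, fun e => h (Subtype.ext e)⟩
  have hcomm : ∀ a ∈ S, ∀ c ∈ S, Commute a c := by
    rintro a ⟨B, hBQ, hB, ha, ha'⟩ c ⟨B', hB'Q, hB', hc, hc'⟩
    obtain ⟨⟨b, hb, hb'⟩, hb1⟩ : ∃ b : ↥(B ⊓ B'), b ≠ 1 := by
      refine (Subgroup.ne_bot_iff_exists_ne_one).mp fun e => ?_
      have h := SFourFree.card_sup_mul_card_inf (A := B) (B := B')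
        (hB'Q.trans (le_centralizer_iff.mp (fun q hq => mem_centralizer_iff.mpr fun b hb =>
          (D.commute (hBQ hb) hq).eq) |> fun h => (le_centralizer_iff.mp h).trans
            (centralizer_le_normalizer _)))
      rw [e, Subgroup.card_bot, mul_one] at h
      have h2 := Subgroup.card_le_of_le (sup_le hBQ hB'Q)
      rw [h, D.card] at h2
      nlinarith
    have hbne : b ≠ 1 := fun e => hb1 (Subtype.ext e)
    exact D.commute_of_odd (hBQ hb) hbne (ha b hb) ha' (hc b hb') hc'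
  set H := closure S with hH
  have hHcomm : ∀ a ∈ H, ∀ c ∈ H, Commute a c := by
    have h1 : H ≤ centralizer S :=
      (closure_le _).mpr fun a ha => mem_centralizer_iff.mpr fun c hc => (hcomm c hc a ha).eq
    have h2 : H ≤ centralizer (H : Set G) := by
      rw [hH, centralizer_closure]
      exact h1
    exact fun a ha c hc => (mem_centralizer_iff.mp (h2 ha) c hc).symm
  have hHp : IsPGroup p H := by
    rintro ⟨g, hg⟩
    suffices h : ∃ k, g ^ p ^ k = 1 from h.imp fun k hk => Subtype.ext hk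
    revert g
    intro g hg
    induction hg using closure_induction with
    | mem g hg =>
      obtain ⟨B, hBQ, hB, hgB, hg'⟩ := hg
      obtain ⟨b, hb, hb1⟩ := hne B hB
      exact D.exists_mem_pow (hBQ hb) hb1 (hgB b hb) hg'
    | one => exact ⟨0, one_pow _⟩
    | mul a c ha hc iha ihc =>
      obtain ⟨i, hi⟩ := iha
      obtain ⟨j, hj⟩ := ihc
      refine ⟨i + j, ?_⟩
      have hj' : c ^ p ^ (i + j) = 1 := by rw [add_comm, pow_add, pow_mul, hj, one_pow]
      rw [(hHcomm a ha c hc).mul_pow, hj', mul_one, pow_add, pow_mul, hi, one_pow]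
    | inv a ha iha =>
      obtain ⟨i, hi⟩ := iha
      exact ⟨i, by rw [inv_pow, hi, inv_one]⟩
  have hconj : ∀ g ∈ normalizer (Q : Set G), H ≤ H.comap (MulAut.conj g).toMonoidHom := by
    intro g hg
    refine (closure_le _).mpr ?_
    rintro a ⟨B, hBQ, hB, ha, ha'⟩
    refine subset_closure ⟨B.map (MulAut.conj g).toMonoidHom, ?_, ?_, ?_, conj_odd.mpr ha'⟩
    · rintro _ ⟨b, hb, rfl⟩
      exact (Subgroup.mem_normalizer_iff.mp hg b).mp (hBQ hb)
    · rwa [Subgroup.card_map_of_injective (MulAut.conj g).injective]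
    · rintro _ ⟨b, hb, rfl⟩
      exact (ha b hb).map (MulAut.conj g).toMonoidHom
  have hxH : x ∈ normalizer (H : Set G) := by
    rw [Subgroup.mem_normalizer_iff]
    refine fun z => ⟨fun hz => hconj x D.xnorm hz, fun hz => ?_⟩
    have h : x⁻¹ * (x * z * x⁻¹) * x⁻¹⁻¹ ∈ H := hconj x⁻¹ (inv_mem D.xnorm) hz
    simpa [mul_assoc] using h
  obtain ⟨b, hb, hb1⟩ := hne B hB
  exact D.centralizes_of_commute_x (hBQ hb) hb1 (hy b hb)
    (D.commute_x hHp hxH (subset_closure ⟨B, hBQ, hB, hy, hy'⟩))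

/-- The induction on the index of `B` in `Q`. -/
theorem centralizes_of_le (h8 : 8 ≤ p + 1) : ∀ (n : ℕ) (B : Subgroup G), B ≤ Q →
    p + 1 - Nat.card B = n → B ≠ ⊥ → ∀ y : G, (∀ b ∈ B, Commute y b) → ¬ 2 ∣ orderOf y →
    y ∈ centralizer (Q : Set G) := by
  intro n
  induction n using Nat.strong_induction_on with
  | _ n ih =>
  intro B hBQ hn hB y hy hy'
  have := Fact.mk Nat.prime_two
  by_cases hQB : B = Q
  · subst hQB
    exact mem_centralizer_iff.mpr fun b hb => (hy b hb).symm.eq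
  obtain ⟨v, hvQ, hvB⟩ : ∃ v ∈ Q, v ∉ B := by
    by_contra h
    push Not at h
    exact hQB (le_antisymm hBQ h)
  have hnorm : ∀ {v : G}, v ∈ Q → zpowers v ≤ normalizer (B : Set G) := fun hv =>
    (zpowers_le.mpr (mem_centralizer_iff.mpr fun b hb => (D.commute (hBQ hb) hv).eq)).trans
      (centralizer_le_normalizer _)
  have hgrow : ∀ {v : G}, v ∈ Q → v ∉ B →
      Nat.card ↥(B ⊔ zpowers v) = Nat.card B * 2 ∧ B ⊔ zpowers v ≤ Q := by
    intro v hv hvB
    have hv1 : v ≠ 1 := fun e => hvB (e ▸ one_mem B)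
    have hcv : Nat.card (zpowers v) = 2 := by
      rw [Nat.card_zpowers, orderOf_eq_prime (by rw [pow_two]; exact D.mul_self hv) hv1]
    have h := SFourFree.card_sup_mul_card_inf (A := B) (B := zpowers v) (hnorm hv)
    have hi : B ⊓ zpowers v = ⊥ := by
      rcases (Nat.dvd_prime Nat.prime_two).mp
        (hcv ▸ Subgroup.card_dvd_of_le (inf_le_right : B ⊓ zpowers v ≤ zpowers v)) with h1 | h1
      · exact Subgroup.eq_bot_of_card_eq _ h1
      · exact absurd (zpowers_le.mp (inf_eq_right.mp (Subgroup.eq_of_le_of_card_ge inf_le_right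
          (by rw [h1, hcv])))) hvB
    rw [hi, Subgroup.card_bot, mul_one, hcv] at h
    exact ⟨h, sup_le hBQ (zpowers_le.mpr hv)⟩
  obtain ⟨hcv, hvle⟩ := hgrow hvQ hvB
  by_cases hfull : B ⊔ zpowers v = Q
  · exact D.centralizes_of_hyperplane h8 hBQ (by rw [← hcv, hfull, D.card]) hy hy'
  obtain ⟨w, hwQ, hw⟩ : ∃ w ∈ Q, w ∉ B ⊔ zpowers v := by
    by_contra h
    push Not at h
    exact hfull (le_antisymm hvle h)
  have hwB : w ∉ B := fun h => hw (mem_sup_left h)
  have hvwB : v * w ∉ B := fun h => hw (by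
    rw [show w = v⁻¹ * (v * w) by group]
    exact mul_mem (inv_mem (mem_sup_right (mem_zpowers v))) (mem_sup_left h))
  obtain ⟨b, hb, hb1⟩ : ∃ b ∈ B, b ≠ 1 := by
    obtain ⟨⟨b, hb⟩, h⟩ := (Subgroup.ne_bot_iff_exists_ne_one (H := B)).mp hB
    exact ⟨b, hb, fun e => h (Subtype.ext e)⟩
  -- conjugates of `y` by `Q`
  have hcj : ∀ v ∈ Q, (∀ b ∈ B, Commute (v * y * v⁻¹) b) := fun v hv b hb => by
    have h : Commute v b := D.commute hv (hBQ hb)
    exact ((h.mul_left (hy b hb)).mul_left h.inv_left)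
  have hodd : ∀ a c : G, (∀ b ∈ B, Commute a b) → ¬ 2 ∣ orderOf a →
      (∀ b ∈ B, Commute c b) → ¬ 2 ∣ orderOf c → ¬ 2 ∣ orderOf (a * c) := by
    intro a c ha ha' hc hc' hd
    have h1 := (D.commute_of_odd (hBQ hb) hb1 (ha b hb) ha' (hc b hb) hc').orderOf_mul_dvd_lcm
    rcases Nat.prime_two.dvd_mul.mp (hd.trans (h1.trans (Nat.lcm_dvd_mul _ _))) with h | h
    · exact ha' h
    · exact hc' h
  have hkey : ∀ v ∈ Q, v ∉ B → ∀ a : G, (∀ b ∈ B, Commute a b) → ¬ 2 ∣ orderOf a → Commute a v →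
      a ∈ centralizer (Q : Set G) := by
    intro v hv hvB a ha ha' hav
    obtain ⟨hc, hle⟩ := hgrow hv hvB
    refine ih _ ?_ (B ⊔ zpowers v) hle rfl (fun e => hB (le_bot_iff.mp (e ▸ le_sup_left))) a
      (fun z hz => ?_) ha'
    · have := Subgroup.card_le_of_le hle
      rw [D.card, hc] at this
      have : 0 < Nat.card B := Nat.card_pos
      omega
    · have hle' : B ⊔ zpowers v ≤ centralizer ({a} : Set G) := sup_le
        (fun b hb => mem_centralizer_singleton_iff.mpr (ha b hb).symm.eq)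
        (zpowers_le.mpr (mem_centralizer_singleton_iff.mpr hav.symm.eq))
      exact (show Commute z a from mem_centralizer_singleton_iff.mp (hle' hz)).symm
  -- `a_v = y (v y v⁻¹)` is centralized by `v`
  have hav : ∀ v ∈ Q, ∀ a : G, (∀ b ∈ B, Commute a b) → ¬ 2 ∣ orderOf a →
      Commute (v * a * v⁻¹) a ∧ Commute (a * (v * a * v⁻¹)) v ∧
      (∀ b ∈ B, Commute (v * a * v⁻¹) b) ∧ ¬ 2 ∣ orderOf (v * a * v⁻¹) := by
    intro v hv a ha ha'
    have hb' : ∀ b ∈ B, Commute (v * a * v⁻¹) b := fun b hb => by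
      have h : Commute v b := D.commute hv (hBQ hb)
      exact ((h.mul_left (ha b hb)).mul_left h.inv_left)
    have hc : Commute (v * a * v⁻¹) a :=
      D.commute_of_odd (hBQ hb) hb1 (hb' b hb) (conj_odd.mpr ha') (ha b hb) ha'
    refine ⟨hc, ?_, hb', conj_odd.mpr ha'⟩
    have hvv : v⁻¹ = v := inv_eq_of_mul_eq_one_right (D.mul_self hv)
    show a * (v * a * v⁻¹) * v = v * (a * (v * a * v⁻¹))
    calc a * (v * a * v⁻¹) * v = a * v * a := by group
      _ = a * (v * a * v⁻¹) * v := by group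
      _ = (v * a * v⁻¹) * a * v := by rw [hc.eq]
      _ = v * (a * (v⁻¹ * a * v)) := by group
      _ = v * (a * (v * a * v⁻¹)) := by rw [hvv]
  set y₁ := y * (v * y * v⁻¹) with hy₁
  set y₂ := y * (w * y * w⁻¹) with hy₂
  set y₃ := y * (v * w * y * (v * w)⁻¹) with hy₃
  obtain ⟨c1, f1, b1, o1⟩ := hav v hvQ y hy hy'
  obtain ⟨c2, f2, b2, o2⟩ := hav w hwQ y hy hy'
  obtain ⟨c3, f3, b3, o3⟩ := hav (v * w) (mul_mem hvQ hwQ) y hy hy'
  have hb1' : ∀ b ∈ B, Commute y₁ b := fun b hb => (hy b hb).mul_left (b1 b hb)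
  have hb2' : ∀ b ∈ B, Commute y₂ b := fun b hb => (hy b hb).mul_left (b2 b hb)
  have hb3' : ∀ b ∈ B, Commute y₃ b := fun b hb => (hy b hb).mul_left (b3 b hb)
  have ho1 := hodd _ _ hy hy' b1 o1
  have ho2 := hodd _ _ hy hy' b2 o2
  have ho3 := hodd _ _ hy hy' b3 o3
  have h1 : y₁ ∈ centralizer (Q : Set G) := hkey v hvQ hvB _ hb1' ho1 f1
  have h2 : y₂ ∈ centralizer (Q : Set G) := hkey w hwQ hwB _ hb2' ho2 f2
  have h3 : y₃ ∈ centralizer (Q : Set G) := hkey _ (mul_mem hvQ hwQ) hvwB _ hb3' ho3 f3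
  -- `y₁ (w y₁ w⁻¹) = y (v y v⁻¹) (w y w⁻¹) (v w y (v w)⁻¹)`
  have hw1 : w * y₁ * w⁻¹ ∈ centralizer (Q : Set G) := by
    have : Commute w y₁ := mem_centralizer_iff.mp h1 w hwQ
    rwa [this.eq, mul_inv_cancel_right]
  have hwv : w * v = v * w := (D.commute hwQ hvQ).eq
  have hwy1 : w * y₁ * w⁻¹ = (w * y * w⁻¹) * (v * w * y * (v * w)⁻¹) := by
    rw [hy₁]
    calc w * (y * (v * y * v⁻¹)) * w⁻¹ = (w * y * w⁻¹) * ((w * v) * y * (w * v)⁻¹) := by group
      _ = _ := by rw [hwv]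
  have hyy : y * y ∈ centralizer (Q : Set G) := by
    have hprod : y₁ * y₂ * y₃ * (y₁ * (w * y₁ * w⁻¹))⁻¹ = y * y := by
      rw [hwy1, hy₁, hy₂, hy₃]
      set a := v * y * v⁻¹ with ha
      set c := w * y * w⁻¹ with hc
      set e := v * w * y * (v * w)⁻¹ with he
      have hac : Commute a c := D.commute_of_odd (hBQ hb) hb1 (b1 b hb) o1 (b2 b hb) o2
      have hae : Commute a e := D.commute_of_odd (hBQ hb) hb1 (b1 b hb) o1 (b3 b hb) o3
      have hce : Commute c e := D.commute_of_odd (hBQ hb) hb1 (b2 b hb) o2 (b3 b hb) o3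
      calc y * a * (y * c) * (y * e) * (y * a * (c * e))⁻¹
          = y * (a * y) * (c * y) * c⁻¹ * a⁻¹ * y⁻¹ := by
            simp only [mul_inv_rev]; group
        _ = y * (y * a) * (y * c) * c⁻¹ * a⁻¹ * y⁻¹ := by rw [c1.eq, c2.eq]
        _ = y * y * (a * y) * a⁻¹ * y⁻¹ := by group
        _ = y * y * (y * a) * a⁻¹ * y⁻¹ := by rw [c1.eq]
        _ = y * y := by group
    rw [← hprod]
    exact mul_mem (mul_mem (mul_mem h1 h2) h3) (inv_mem (mul_mem h1 hw1))
  obtain ⟨m, hm⟩ := exists_pow_eq_self_of_coprime (n := 2) (x := y)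
    (Nat.prime_two.coprime_iff_not_dvd.mpr hy')
  rw [← hm, pow_two]
  exact pow_mem hyy m

/-- The odd part of the centralizer of an involution of `Q` centralizes `Q`, provided `p ≠ 3` or
some nontrivial element of odd order centralizes `Q`. -/
theorem centralizes_of_odd
    (h : 8 ≤ p + 1 ∨ ∃ e ∈ centralizer (Q : Set G), e ≠ 1 ∧ ¬ 2 ∣ orderOf e)
    {t y : G} (ht : t ∈ Q) (ht1 : t ≠ 1) (hy : Commute y t) (hy' : ¬ 2 ∣ orderOf y) :
    y ∈ centralizer (Q : Set G) := by
  rcases h with h8 | ⟨e, he, he1, he'⟩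
  · refine D.centralizes_of_le h8 _ (zpowers t) (zpowers_le.mpr ht) rfl (by simpa using ht1) y
      (fun b hb => ?_) hy'
    obtain ⟨n, rfl⟩ := hb
    exact hy.zpow_right n
  · have het : Commute e t := (mem_centralizer_iff.mp he t ht).symm
    obtain ⟨K, hK, hmem, hfac⟩ := D.exists_odd ht ht1
    set W := K ⊓ centralizer (Q : Set G) with hW
    have heW : e ∈ W := ⟨(hmem e).mpr ⟨het, he'⟩, he⟩
    have hxW : x ∈ normalizer (W : Set G) := by
      have key : ∀ g ∈ normalizer (Q : Set G), W ≤ W.comap (MulAut.conj g).toMonoidHom := by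
        rintro g hg z ⟨hz1, hz2⟩
        have hzC : g * z * g⁻¹ ∈ centralizer (Q : Set G) := mem_centralizer_iff.mpr fun s hs => by
          have hs' : g⁻¹ * s * g ∈ Q := by
            simpa using (Subgroup.mem_normalizer_iff.mp (inv_mem hg) s).mp hs
          have := mem_centralizer_iff.mp hz2 _ hs'
          calc s * (g * z * g⁻¹) = g * (g⁻¹ * s * g * z) * g⁻¹ := by group
            _ = g * (z * (g⁻¹ * s * g)) * g⁻¹ := by rw [this]
            _ = g * z * g⁻¹ * s := by group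
        exact ⟨(hmem _).mpr ⟨(mem_centralizer_iff.mp hzC t ht).symm,
          conj_odd.mpr ((hmem z).mp hz1).2⟩, hzC⟩
      rw [Subgroup.mem_normalizer_iff]
      refine fun z => ⟨fun hz => key x D.xnorm hz, fun hz => ?_⟩
      have h : x⁻¹ * (x * z * x⁻¹) * x⁻¹⁻¹ ∈ W := key x⁻¹ (inv_mem D.xnorm) hz
      simpa [mul_assoc] using h
    have hxWc : ∀ w ∈ W, Commute x w := fun w hw =>
      D.commute_x (hK.to_le inf_le_left) hxW hw
    set M := centralizer ({e} : Set G) with hM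
    have hQM : Q ≤ M := fun q hq => mem_centralizer_singleton_iff.mpr (mem_centralizer_iff.mp he q hq)
    obtain ⟨O, hOM, hMO, hOp, hOn⟩ := D.exists_core (D.centralizer_ne_top he1) hQM
    have hyM : y ∈ M := mem_centralizer_singleton_iff.mpr (D.commute_of_odd ht ht1 hy hy' het he').eq
    have hxM : x ∈ M := mem_centralizer_singleton_iff.mpr (hxWc e heW).eq
    obtain ⟨o, ho, n, hnM, hnQ, hon⟩ := hOn y hyM
    have hne2 : ¬ 2 ∣ orderOf o := fun hd => by
      obtain ⟨k, hk⟩ := hOp ⟨o, ho⟩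
      have h2 := hd.trans (orderOf_dvd_of_pow_eq_one (congrArg Subtype.val hk))
      exact D.odd ((Nat.prime_dvd_prime_iff_eq Nat.prime_two D.prime).mp
        (Nat.prime_two.dvd_of_dvd_pow h2)).symm
    have htn : Commute n t := by
      have hn' : n = o⁻¹ * y := by rw [← hon]; group
      have hd : n * t * n⁻¹ * t⁻¹ = o⁻¹ * (t * o * t⁻¹) := by
        rw [hn']
        calc o⁻¹ * y * t * (o⁻¹ * y)⁻¹ * t⁻¹ = o⁻¹ * (y * t * y⁻¹) * o * t⁻¹ := by group
          _ = o⁻¹ * (t * o * t⁻¹) := by rw [hy.eq]; group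
      have hdO : n * t * n⁻¹ * t⁻¹ ∈ O := by
        rw [hd]
        exact mul_mem (inv_mem ho) ((Subgroup.mem_normalizer_iff.mp (hMO (hQM ht)) o).mp ho)
      have hdQ : n * t * n⁻¹ * t⁻¹ ∈ Q :=
        mul_mem ((Subgroup.mem_normalizer_iff.mp hnQ t).mp ht) (inv_mem ht)
      have h1 : n * t * n⁻¹ * t⁻¹ = 1 := by
        by_contra h1
        obtain ⟨k, hk⟩ := hOp ⟨_, hdO⟩
        have h2 : orderOf (n * t * n⁻¹ * t⁻¹) = 2 :=
          orderOf_eq_prime (hp := ⟨Nat.prime_two⟩) (by rw [pow_two]; exact D.mul_self hdQ) h1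
        have := orderOf_dvd_of_pow_eq_one (congrArg Subtype.val hk)
        rw [h2] at this
        exact D.odd ((Nat.prime_dvd_prime_iff_eq Nat.prime_two D.prime).mp
          (Nat.prime_two.dvd_of_dvd_pow this)).symm
      rw [mul_inv_eq_one, mul_inv_eq_iff_eq_mul] at h1
      exact h1
    obtain ⟨k, hk, q, hq, hkq⟩ := hfac n htn
    have hot : Commute o t := by
      have ho' : o = y * n⁻¹ := by rw [← hon]; group
      rw [ho']
      exact hy.mul_left htn.inv_left
    have hkW : k ∈ W := by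
      refine ⟨hk, ?_⟩
      have hkn : k ∈ normalizer (Q : Set G) := by
        have : k = n * q⁻¹ := by rw [← hkq]; group
        rw [this]
        exact mul_mem hnQ (Subgroup.le_normalizer (inv_mem hq))
      obtain ⟨j, hj⟩ := hK ⟨k, hk⟩
      obtain ⟨l, -, hl⟩ := (Nat.dvd_prime_pow D.prime).mp
        (orderOf_dvd_of_pow_eq_one (congrArg Subtype.val hj))
      exact D.centralizes ⟨l, hl⟩ hkn ht ht1 (((hmem k).mp hk).1.symm)
    have hq1 : q = 1 := by
      have hqK : q ∈ K := by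
        have : q = (o * k)⁻¹ * y := by rw [← hon, ← hkq]; group
        rw [this]
        exact mul_mem (inv_mem (mul_mem ((hmem o).mpr ⟨hot, hne2⟩) hk)) ((hmem y).mpr ⟨hy, hy'⟩)
      by_contra hq1
      exact ((hmem q).mp hqK).2 (by
        rw [orderOf_eq_prime (hp := ⟨Nat.prime_two⟩) (by rw [pow_two]; exact D.mul_self hq) hq1])
    rw [hq1, mul_one] at hkq
    refine D.centralizes_of_commute_x ht ht1 hy ?_
    rw [← hon, ← hkq]
    exact (D.commute_x hOp (hMO hxM) ho).mul_right (hxWc k hkW)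

end Data

end Cfsg.Agent.Lib.MixedCover
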