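import Mathlib
import Cfsg.Agent.Lib.MixedCover.Central

/-!
The configuration in which the centralizers of the involutions of `Q` centralize `Q`: counting
involutions in the cosets of the normalizer of `Q`.
-/

set_option autoImplicit false

namespace Cfsg.Agent.Lib.MixedCover

open Subgroup

universe u

variable {G : Type u} [Group G] [Finite G] {p : ℕ}

namespace Data

variable {Q : Subgroup G} {x : G} (D : Data p Q x)
include D

theorem normalizer_ne_top : normalizer (Q : Set G) ≠ ⊤ := fun h => by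
  have := D.simple
  have hn : Q.Normal := normalizer_eq_top_iff.mp h
  rcases hn.eq_bot_or_eq_top with h1 | h1
  · exact D.Q_ne_bot h1
  · obtain ⟨r, hr, hrG, hrp, hr2⟩ := D.third
    have := Fact.mk Nat.prime_two
    have h2 : IsPGroup 2 (⊤ : Subgroup G) := h1 ▸ D.qgroup
    exact not_dvd_card_of_isPGroup hr hr2 h2 (by rwa [Subgroup.card_top])

theorem centralizer_le_normalizer_Q {g : G} (hg : g ∈ centralizer (Q : Set G)) :
    g ∈ normalizer (Q : Set G) :=
  centralizer_le_normalizer _ hg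

/-- An involution normalizing `Q` lies in `Q`. -/
theorem mem_of_sq {z : G} (hz : z ∈ normalizer (Q : Set G)) (hz2 : z * z = 1) : z ∈ Q := by
  have := Fact.mk Nat.prime_two
  rcases eq_or_ne z 1 with rfl | hz1
  · exact one_mem Q
  have h2 : IsPGroup 2 ↥(Q ⊔ zpowers z) := D.qgroup.to_sup_of_normal_left'
    (IsPGroup.of_card (n := 1) (by
      rw [Nat.card_zpowers, orderOf_eq_prime (by rw [pow_two]; exact hz2) hz1, pow_one]))
    (zpowers_le.mpr hz)
  have h := Subgroup.eq_of_le_of_card_ge (le_sup_left : Q ≤ Q ⊔ zpowers z)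
    (by rw [D.card]; exact D.two_part _ h2)
  exact h ▸ mem_sup_right (mem_zpowers z)

theorem exists_conj_mem {z : G} (hz : z * z = 1) : ∃ g : G, g⁻¹ * z * g ∈ Q := by
  have := Fact.mk Nat.prime_two
  obtain ⟨S, hS⟩ := D.qgroup.exists_le_sylow
  have hSQ : (S : Subgroup G) = Q :=
    (Subgroup.eq_of_le_of_card_ge hS (by rw [D.card]; exact D.two_part _ S.2)).symm
  have hz2 : IsPGroup 2 (zpowers z) := by
    rintro ⟨_, n, rfl⟩
    refine ⟨1, Subtype.ext ?_⟩
    show (z ^ n) ^ (2 ^ 1) = 1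
    rw [pow_one, pow_two, ← (Commute.refl z).mul_zpow, hz, one_zpow]
  obtain ⟨T, hT⟩ := hz2.exists_le_sylow
  obtain ⟨g, hg⟩ := MulAction.exists_smul_eq G S T
  refine ⟨g, ?_⟩
  have h : z ∈ ((g • S : Sylow 2 G) : Subgroup G) := hg ▸ hT (mem_zpowers z)
  rw [Sylow.coe_subgroup_smul, Subgroup.mem_pointwise_smul_iff_inv_smul_mem, hSQ, ← map_inv,
    MulAut.smul_def, MulAut.conj_apply, inv_inv] at h
  exact h

theorem mul_sq_eq {B : Subgroup G} {b y v w : G} (hb : b ∈ Q) (hb1 : b ≠ 1) (hB : b ∈ B)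
    (hv : v ∈ Q) (hw : w ∈ Q) (hy : Commute y b) (hy' : ¬ 2 ∣ orderOf y) :
    ∀ L : Subgroup G, (∀ u ∈ Q, (u = v ∨ u = w ∨ u = v * w) → y * (u * y * u⁻¹) ∈ L) →
      w * (y * (v * y * v⁻¹)) * w⁻¹ ∈ L → y * y ∈ L := by
  intro L hL hw1
  have hcj : ∀ u ∈ Q, Commute (u * y * u⁻¹) b ∧ ¬ 2 ∣ orderOf (u * y * u⁻¹) := fun u hu => by
    have h : Commute u b := D.commute hu hb
    exact ⟨(h.mul_left hy).mul_left h.inv_left, conj_odd.mpr hy'⟩
  obtain ⟨a1, o1⟩ := hcj v hv
  obtain ⟨a2, o2⟩ := hcj w hw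
  obtain ⟨a3, o3⟩ := hcj (v * w) (mul_mem hv hw)
  have hwv : w * v = v * w := (D.commute hw hv).eq
  have hprod : (y * (v * y * v⁻¹)) * (y * (w * y * w⁻¹)) * (y * (v * w * y * (v * w)⁻¹)) *
      ((y * (v * y * v⁻¹)) * (w * (y * (v * y * v⁻¹)) * w⁻¹))⁻¹ = y * y := by
    have hwy1 : w * (y * (v * y * v⁻¹)) * w⁻¹ = (w * y * w⁻¹) * (v * w * y * (v * w)⁻¹) := by
      calc w * (y * (v * y * v⁻¹)) * w⁻¹ = (w * y * w⁻¹) * ((w * v) * y * (w * v)⁻¹) := by group
        _ = _ := by rw [hwv]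
    rw [hwy1]
    set a := v * y * v⁻¹
    set c := w * y * w⁻¹
    set e := v * w * y * (v * w)⁻¹
    have c1 : Commute a y := D.commute_of_odd hb hb1 a1 o1 hy hy'
    have c2 : Commute c y := D.commute_of_odd hb hb1 a2 o2 hy hy'
    calc y * a * (y * c) * (y * e) * (y * a * (c * e))⁻¹
        = y * (a * y) * (c * y) * c⁻¹ * a⁻¹ * y⁻¹ := by simp only [mul_inv_rev]; group
      _ = y * (y * a) * (y * c) * c⁻¹ * a⁻¹ * y⁻¹ := by rw [c1.eq, c2.eq]
      _ = y * y * (a * y) * a⁻¹ * y⁻¹ := by group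
      _ = y * y * (y * a) * a⁻¹ * y⁻¹ := by rw [c1.eq]
      _ = y * y := by group
  rw [← hprod]
  exact mul_mem (mul_mem (mul_mem (hL v hv (Or.inl rfl)) (hL w hw (Or.inr (Or.inl rfl))))
    (hL _ (mul_mem hv hw) (Or.inr (Or.inr rfl)))) (inv_mem (mul_mem (hL v hv (Or.inl rfl)) hw1))

variable (hC : ∀ t ∈ Q, t ≠ 1 → ∀ g : G, Commute g t → g ∈ centralizer (Q : Set G))
include hC

/-- An element conjugating a nontrivial element of `Q` into `Q` normalizes `Q`. -/
theorem mem_normalizer_of_conj {s g : G} (hs : s ∈ Q) (hs1 : s ≠ 1) (hg : g * s * g⁻¹ ∈ Q) :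
    g ∈ normalizer (Q : Set G) := by
  have key : ∀ q ∈ Q, g * q * g⁻¹ ∈ Q := fun q hq => D.mem_of_sq
    (centralizer_le_normalizer_Q D (hC _ hg (fun e => hs1 (conj_eq_one_iff.mp e)) _
      ((D.commute hq hs).map (MulAut.conj g).toMonoidHom)))
    (by rw [show g * q * g⁻¹ * (g * q * g⁻¹) = g * (q * q) * g⁻¹ by group, D.mul_self hq]; group)
  have hmap : Q.map (MulAut.conj g).toMonoidHom = Q := Subgroup.eq_of_le_of_card_ge
    (by rintro _ ⟨q, hq, rfl⟩; exact key q hq)
    (by rw [Subgroup.card_map_of_injective (MulAut.conj g).injective])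
  rw [Subgroup.mem_normalizer_iff]
  refine fun h => ⟨key h, fun hh => ?_⟩
  have hh' : g * h * g⁻¹ ∈ Q.map (MulAut.conj g).toMonoidHom := hmap.symm ▸ hh
  obtain ⟨q, hq, hqh⟩ := hh'
  have hqh' : g * q * g⁻¹ = g * h * g⁻¹ := hqh
  rwa [← mul_left_cancel (mul_right_cancel hqh')]

/-- An element of `N(Q)` inverted by an involution outside has odd order. -/
theorem odd_of_inverted {u m : G} (hu2 : u * u = 1) (hu : u ∉ normalizer (Q : Set G))
    (hm : m ∈ normalizer (Q : Set G)) (hinv : u * m * u⁻¹ = m⁻¹) : ¬ 2 ∣ orderOf m := by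
  intro hd
  set s := m ^ (orderOf m / 2) with hs
  have hso : orderOf s = 2 := orderOf_pow_orderOf_div (orderOf_pos m).ne' hd
  have hs2 : s * s = 1 := by rw [← pow_two, ← hso, pow_orderOf_eq_one]
  have hs1 : s ≠ 1 := fun e => by simp [e] at hso
  have hsQ := D.mem_of_sq (pow_mem hm _) hs2
  refine hu (D.mem_normalizer_of_conj hC hsQ hs1 ?_)
  rw [← conj_pow, hinv, inv_pow]
  exact inv_mem hsQ

/-- The number of involutions is at least `p` times the index of `N(Q)`. -/
theorem le_ncard_involutions :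
    (normalizer (Q : Set G)).index * p ≤ {u : G | u * u = 1 ∧ u ≠ 1}.ncard := by
  set N := normalizer (Q : Set G)
  let f : (G ⧸ N) × ↥((Q : Set G) \ {1}) → G := fun c => c.1.out * c.2 * c.1.out⁻¹
  have hinj : Function.Injective f := by
    rintro ⟨c, s⟩ ⟨c', s'⟩ h
    have hmem : c'.out⁻¹ * c.out ∈ N := by
      refine D.mem_normalizer_of_conj hC s.2.1 s.2.2 ?_
      rw [show c'.out⁻¹ * c.out * (s : G) * (c'.out⁻¹ * c.out)⁻¹ =
        c'.out⁻¹ * (c.out * (s : G) * c.out⁻¹) * c'.out by group]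
      simp only [f] at h
      rw [h, show c'.out⁻¹ * (c'.out * (s' : G) * c'.out⁻¹) * c'.out = (s' : G) by group]
      exact s'.2.1
    have hcc : c' = c := by
      rw [← c.out_eq', ← c'.out_eq']
      exact QuotientGroup.eq.mpr hmem
    subst hcc
    simp only [f] at h
    exact Prod.ext rfl (Subtype.ext (mul_left_cancel (mul_right_cancel h)))
  have hrange : Set.range f ⊆ {u : G | u * u = 1 ∧ u ≠ 1} := by
    rintro _ ⟨⟨c, s⟩, rfl⟩
    refine ⟨?_, fun e => s.2.2 (conj_eq_one_iff.mp e)⟩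
    show c.out * (s : G) * c.out⁻¹ * (c.out * s * c.out⁻¹) = 1
    rw [show c.out * (s : G) * c.out⁻¹ * (c.out * s * c.out⁻¹) = c.out * ((s : G) * s) * c.out⁻¹ by
      group, D.mul_self s.2.1]
    group
  refine le_trans (le_of_eq ?_) (Set.ncard_le_ncard hrange (Set.toFinite _))
  rw [Set.ncard_range_of_injective hinj, Nat.card_prod, Nat.card_coe_set_eq (_ \ _),
    Set.ncard_diff_singleton_of_mem (one_mem Q), ← Nat.card_coe_set_eq,
    show Nat.card (Q : Set G) = p + 1 from D.card]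
  rfl

omit hC in
theorem ncard_fibre_one_le {c : G ⧸ normalizer (Q : Set G)}
    (hc : c = ((1 : G) : G ⧸ normalizer (Q : Set G))) :
    {u : G | (u * u = 1 ∧ u ≠ 1) ∧ (u : G ⧸ normalizer (Q : Set G)) = c}.ncard ≤ p := by
  refine (Set.ncard_le_ncard (t := (Q : Set G) \ {1}) ?_ (Set.toFinite _)).trans (le_of_eq ?_)
  · rintro u ⟨⟨h1, h2⟩, h3⟩
    refine ⟨D.mem_of_sq ?_ h1, h2⟩
    rw [hc] at h3
    simpa using QuotientGroup.eq.mp h3.symm
  · rw [Set.ncard_diff_singleton_of_mem (one_mem Q), ← Nat.card_coe_set_eq,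
      show Nat.card (Q : Set G) = p + 1 from D.card]
    rfl

omit hC D in
/-- The involutions in a coset of `N(Q)` correspond to elements of `N(Q)` inverted by one. -/
theorem inverted_of_coset {u₀ u : G} (h0 : u₀ * u₀ = 1) (hu : u * u = 1) :
    u₀ * (u₀⁻¹ * u) * u₀⁻¹ = (u₀⁻¹ * u)⁻¹ := by
  have e1 : u₀⁻¹ = u₀ := inv_eq_of_mul_eq_one_right h0
  have e2 : u⁻¹ = u := inv_eq_of_mul_eq_one_right hu
  rw [mul_inv_rev, inv_inv, e2, mul_inv_cancel_left, e1]

/-- Some involution outside `N(Q)` inverts a nontrivial element of `N(Q)`. -/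
theorem exists_inverted : ∃ u m : G, u * u = 1 ∧ u ∉ normalizer (Q : Set G) ∧
    m ∈ normalizer (Q : Set G) ∧ m ≠ 1 ∧ u * m * u⁻¹ = m⁻¹ := by
  by_contra hno
  push Not at hno
  set N := normalizer (Q : Set G) with hN
  classical
  have := Fintype.ofFinite G
  have := Fintype.ofFinite (G ⧸ N)
  set I := {u : G | u * u = 1 ∧ u ≠ 1} with hI
  set π : G → G ⧸ N := fun u => (u : G ⧸ N)
  have hle : ∀ c : G ⧸ N, c ≠ ((1 : G) : G ⧸ N) → (I.toFinset.filter (fun u => π u = c)).card ≤ 1 := by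
    intro c hc
    refine Finset.card_le_one.mpr fun a ha b hb => ?_
    simp only [Finset.mem_filter, Set.mem_toFinset] at ha hb
    by_contra hab
    have hm : a⁻¹ * b ∈ N := QuotientGroup.eq.mp (ha.2.trans hb.2.symm)
    refine hno a (a⁻¹ * b) ha.1.1 (fun h => hc ?_) hm (fun e => hab (inv_mul_eq_one.mp e))
      (inverted_of_coset ha.1.1 hb.1.1)
    rw [← ha.2]
    exact QuotientGroup.eq.mpr (by simpa using h)
  have h1 : (I.toFinset.filter (fun u => π u = ((1 : G) : G ⧸ N))).card ≤ p := by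
    refine le_trans (le_of_eq ?_) (D.ncard_fibre_one_le (c := ((1 : G) : G ⧸ N)) rfl)
    rw [← Set.ncard_coe_finset]
    congr 1
    ext u
    simp [hI, π]
    exact fun _ _ => Iff.rfl
  have hsum := Finset.card_eq_sum_card_fiberwise (f := π) (s := I.toFinset)
    (t := (Finset.univ : Finset (G ⧸ N))) (fun _ _ => Finset.mem_univ _)
  have hI' : N.index * p ≤ I.toFinset.card := by
    rw [← Set.ncard_eq_toFinset_card']
    exact D.le_ncard_involutions hC
  rw [← Finset.add_sum_erase _ _ (Finset.mem_univ ((1 : G) : G ⧸ N))] at hsum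
  have hs : ∑ c ∈ Finset.univ.erase ((1 : G) : G ⧸ N),
      (I.toFinset.filter (fun u => π u = c)).card ≤ N.index - 1 := by
    refine (Finset.sum_le_sum fun c hc => hle c (Finset.ne_of_mem_erase hc)).trans (le_of_eq ?_)
    rw [Finset.sum_const, smul_eq_mul, mul_one, Finset.card_erase_of_mem (Finset.mem_univ _),
      Finset.card_univ, ← Nat.card_eq_fintype_card]
    rfl
  have hidx : 2 ≤ N.index := Subgroup.one_lt_index_of_ne_top D.normalizer_ne_top
  have hp3 : 3 ≤ p := by
    have := D.prime.two_le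
    have := D.odd
    omega
  have h3 : N.index * 3 ≤ N.index * p := Nat.mul_le_mul_left _ hp3
  have h4 : N.index * p ≤ p + (N.index - 1) := hI'.trans (hsum ▸ add_le_add h1 hs)
  nlinarith [Nat.mul_le_mul_right (p - 1) hidx, Nat.sub_add_cancel (le_of_lt hidx)]

/-- The normalizer of the subgroup generated by a nontrivial element of odd order centralizing `Q`
normalizes `Q`. -/
theorem normalizer_zpowers_le {e : G} (he : e ∈ centralizer (Q : Set G)) (he1 : e ≠ 1) :
    normalizer (zpowers e : Set G) ≤ normalizer (Q : Set G) := by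
  set M := normalizer (zpowers e : Set G) with hM
  have hne : M ≠ ⊤ := fun h => by
    have := D.simple
    have hn : (zpowers e).Normal := normalizer_eq_top_iff.mp h
    rcases hn.eq_bot_or_eq_top with h1 | h1
    · exact he1 (zpowers_eq_bot.mp h1)
    · obtain ⟨t, ht, ht1⟩ := D.exists_mem_ne
      refine D.centralizer_ne_top he1 (eq_top_iff.mpr fun g _ => ?_)
      obtain ⟨n, rfl⟩ : g ∈ zpowers e := by rw [h1]; exact Subgroup.mem_top g
      exact mem_centralizer_singleton_iff.mpr ((Commute.refl e).zpow_left n).eq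
  have hQM : Q ≤ M := fun q hq => centralizer_le_normalizer _ (mem_centralizer_iff.mpr fun h hh => by
    obtain ⟨n, rfl⟩ := hh
    exact ((show Commute q e from mem_centralizer_iff.mp he q hq).zpow_right n).symm.eq)
  obtain ⟨O, hOM, hMO, hOp, hOn⟩ := D.exists_core hne hQM
  intro g hg
  obtain ⟨o, ho, n, -, hn, rfl⟩ := hOn g hg
  refine mul_mem (centralizer_le_normalizer_Q D ?_) hn
  obtain ⟨v, hv, hv1⟩ := D.exists_mem_ne
  obtain ⟨w, hw, hw1, hwv⟩ : ∃ w ∈ Q, w ≠ 1 ∧ w ≠ v := by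
    obtain ⟨i, hi⟩ := D.orbit hv hv1 hv hv1
    by_contra h
    push Not at h
    have hsub : (Q : Set G) ⊆ {1, v} := fun z hz => by
      rcases eq_or_ne z 1 with h1 | h1
      · exact Or.inl h1
      · exact Or.inr (h z hz h1)
    have hcard := Set.ncard_le_ncard hsub (Set.toFinite _)
    rw [← Nat.card_coe_set_eq, show Nat.card (Q : Set G) = p + 1 from D.card,
      Set.ncard_pair hv1.symm] at hcard
    have := D.prime.two_le
    have := D.odd
    omega
  have hvw : v * w ≠ 1 := fun e1 => hwv (by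
    rw [mul_eq_one_iff_eq_inv] at e1
    rw [e1, inv_eq_of_mul_eq_one_right (D.mul_self hw)])
  have hodd : ∀ a ∈ O, ¬ 2 ∣ orderOf a := fun a ha hd => by
    obtain ⟨k, hk⟩ := hOp ⟨a, ha⟩
    have h2 := hd.trans (orderOf_dvd_of_pow_eq_one (congrArg Subtype.val hk))
    exact D.odd ((Nat.prime_dvd_prime_iff_eq Nat.prime_two D.prime).mp
      (Nat.prime_two.dvd_of_dvd_pow h2)).symm
  have hfix : ∀ u ∈ Q, u ≠ 1 → o * (u * o * u⁻¹) ∈ centralizer (Q : Set G) := fun u hu hu1 => by
    have hou : u * o * u⁻¹ ∈ O := (Subgroup.mem_normalizer_iff.mp (hMO (hQM hu)) o).mp ho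
    refine hC u hu hu1 _ ?_
    have hc : Commute (u * o * u⁻¹) o := D.commute_of_isPGroup hOp hou ho
    have hvv : u⁻¹ = u := inv_eq_of_mul_eq_one_right (D.mul_self hu)
    show o * (u * o * u⁻¹) * u = u * (o * (u * o * u⁻¹))
    calc o * (u * o * u⁻¹) * u = o * (u * o * u⁻¹) * u := rfl
      _ = (u * o * u⁻¹) * o * u := by rw [hc.eq]
      _ = u * (o * (u⁻¹ * o * u)) := by group
      _ = u * (o * (u * o * u⁻¹)) := by rw [hvv]
  have hsq : o * o ∈ centralizer (Q : Set G) := by
    have c1 : ∀ u ∈ Q, Commute (u * o * u⁻¹) o := fun u hu => D.commute_of_isPGroup hOp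
      ((Subgroup.mem_normalizer_iff.mp (hMO (hQM hu)) o).mp ho) ho
    have hwv' : w * v = v * w := (D.commute hw hv).eq
    have h1 := hfix v hv hv1
    have hw1' : w * (o * (v * o * v⁻¹)) * w⁻¹ ∈ centralizer (Q : Set G) := by
      have : Commute w (o * (v * o * v⁻¹)) := mem_centralizer_iff.mp h1 w hw
      rwa [this.eq, mul_inv_cancel_right]
    have hprod : (o * (v * o * v⁻¹)) * (o * (w * o * w⁻¹)) * (o * (v * w * o * (v * w)⁻¹)) *
        ((o * (v * o * v⁻¹)) * (w * (o * (v * o * v⁻¹)) * w⁻¹))⁻¹ = o * o := by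
      rw [show w * (o * (v * o * v⁻¹)) * w⁻¹ = (w * o * w⁻¹) * (v * w * o * (v * w)⁻¹) from by
        calc w * (o * (v * o * v⁻¹)) * w⁻¹ = (w * o * w⁻¹) * ((w * v) * o * (w * v)⁻¹) := by group
          _ = _ := by rw [hwv']]
      have c1' := c1 v hv
      have c2' := c1 w hw
      set a := v * o * v⁻¹
      set c := w * o * w⁻¹
      set e := v * w * o * (v * w)⁻¹
      calc o * a * (o * c) * (o * e) * (o * a * (c * e))⁻¹
          = o * (a * o) * (c * o) * c⁻¹ * a⁻¹ * o⁻¹ := by simp only [mul_inv_rev]; group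
        _ = o * (o * a) * (o * c) * c⁻¹ * a⁻¹ * o⁻¹ := by rw [c1'.eq, c2'.eq]
        _ = o * o * (a * o) * a⁻¹ * o⁻¹ := by group
        _ = o * o * (o * a) * a⁻¹ * o⁻¹ := by rw [c1'.eq]
        _ = o * o := by group
    rw [← hprod]
    exact mul_mem (mul_mem (mul_mem h1 (hfix w hw hw1)) (hfix _ (mul_mem hv hw) hvw))
      (inv_mem (mul_mem h1 hw1'))
  obtain ⟨m, hm⟩ := exists_pow_eq_self_of_coprime (n := 2) (x := o)
    (Nat.prime_two.coprime_iff_not_dvd.mpr (hodd o ho))
  rw [← hm, pow_two]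
  exact pow_mem hsq m

/-- No nontrivial element of odd order centralizes `Q`. -/
theorem odd_centralizer_eq_one {e : G} (he : e ∈ centralizer (Q : Set G)) (he' : ¬ 2 ∣ orderOf e) :
    e = 1 := by
  by_contra he1
  have := Fact.mk D.prime
  have := Fact.mk Nat.prime_two
  obtain ⟨t, ht, ht1⟩ := D.exists_mem_ne
  obtain ⟨K, hK, hmem, -⟩ := D.exists_odd ht ht1
  set W := K ⊓ centralizer (Q : Set G) with hW
  have hWmem : ∀ y, y ∈ W ↔ y ∈ centralizer (Q : Set G) ∧ ¬ 2 ∣ orderOf y := fun y =>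
    ⟨fun h => ⟨h.2, ((hmem y).mp h.1).2⟩,
     fun h => ⟨(hmem y).mpr ⟨(mem_centralizer_iff.mp h.1 t ht).symm, h.2⟩, h.1⟩⟩
  have hxW : x ∈ normalizer (W : Set G) := by
    have key : ∀ g ∈ normalizer (Q : Set G), W ≤ W.comap (MulAut.conj g).toMonoidHom := by
      intro g hg z hz
      obtain ⟨hz1, hz2⟩ := (hWmem z).mp hz
      refine (hWmem _).mpr ⟨mem_centralizer_iff.mpr fun s hs => ?_, conj_odd.mpr hz2⟩
      have hs' : g⁻¹ * s * g ∈ Q := by
        simpa using (Subgroup.mem_normalizer_iff.mp (inv_mem hg) s).mp hs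
      have := mem_centralizer_iff.mp hz1 _ hs'
      show s * (g * z * g⁻¹) = g * z * g⁻¹ * s
      calc s * (g * z * g⁻¹) = g * (g⁻¹ * s * g * z) * g⁻¹ := by group
        _ = g * (z * (g⁻¹ * s * g)) * g⁻¹ := by rw [this]
        _ = g * z * g⁻¹ * s := by group
    rw [Subgroup.mem_normalizer_iff]
    refine fun z => ⟨fun hz => key x D.xnorm hz, fun hz => ?_⟩
    have h : x⁻¹ * (x * z * x⁻¹) * x⁻¹⁻¹ ∈ W := key x⁻¹ (inv_mem D.xnorm) hz
    simpa [mul_assoc] using h
  obtain ⟨k, hk⟩ := D.xpow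
  obtain ⟨P, hP⟩ := ((hK.to_le inf_le_left).to_sup_of_normal_left'
    (IsPGroup.of_card (n := k) (by rw [Nat.card_zpowers, hk]))
    (zpowers_le.mpr hxW) : IsPGroup p ↥(W ⊔ zpowers x)).exists_le_sylow
  have heW : e ∈ W := (hWmem e).mpr ⟨he, he'⟩
  have heP : e ∈ (P : Subgroup G) := hP (mem_sup_left heW)
  have hpodd : ∀ z ∈ (P : Subgroup G), ¬ 2 ∣ orderOf z := fun z hz hd => by
    obtain ⟨j, hj⟩ := P.2 ⟨z, hz⟩
    have h2 := hd.trans (orderOf_dvd_of_pow_eq_one (congrArg Subtype.val hj))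
    exact D.odd ((Nat.prime_dvd_prime_iff_eq Nat.prime_two D.prime).mp
      (Nat.prime_two.dvd_of_dvd_pow h2)).symm
  -- no involution normalizes a Sylow `p`-subgroup
  have hnoinv : ∀ v : G, v * v = 1 → v ≠ 1 → v ∉ normalizer ((P : Subgroup G) : Set G) := by
    intro v hv hv1 hvn
    by_cases hfix : ∃ z ∈ (P : Subgroup G), z ≠ 1 ∧ Commute z v
    · obtain ⟨z, hz, hz1, hzv⟩ := hfix
      obtain ⟨g, hg⟩ := D.exists_conj_mem hv
      set c := (MulAut.conj g⁻¹).toMonoidHom with hc
      have hcv : ∀ y, c y = g⁻¹ * y * g := fun y => by simp [hc]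
      have hs1 : g⁻¹ * v * g ≠ 1 := fun e => hv1 (by
        simpa [mul_assoc] using congrArg (fun y => g * y * g⁻¹) e)
      have hz' : c z ∈ centralizer (Q : Set G) :=
        hC _ hg hs1 _ (by rw [← hcv]; exact hzv.map c)
      have hz1' : c z ≠ 1 := fun e => hz1 ((MulAut.conj g⁻¹).injective (e.trans (map_one _).symm))
      have hN := D.normalizer_zpowers_le hC hz' hz1'
      have hPN : (P : Subgroup G).map c ≤ normalizer (Q : Set G) := by
        rintro _ ⟨y, hy, rfl⟩
        refine hN (centralizer_le_normalizer _ (mem_centralizer_iff.mpr fun h hh => ?_))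
        obtain ⟨n, rfl⟩ := hh
        exact (((D.commute_of_isPGroup P.2 hy hz).map c).zpow_right n).symm.eq
      have hPW : (P : Subgroup G).map c ≤ W := by
        rintro _ ⟨y, hy, rfl⟩
        have hyo : ¬ 2 ∣ orderOf (c y) := conj_odd.mpr (hpodd y hy)
        refine (hWmem _).mpr ⟨hC _ hg hs1 _ ?_, hyo⟩
        set d := c y * (g⁻¹ * v * g) * (c y)⁻¹ * (g⁻¹ * v * g)⁻¹ with hd
        have hdQ : d ∈ Q :=
          mul_mem ((Subgroup.mem_normalizer_iff.mp (hPN ⟨y, hy, rfl⟩) _).mp hg) (inv_mem hg)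
        have hdP : d ∈ (P : Subgroup G).map c := by
          refine ⟨y * (v * y⁻¹ * v⁻¹), mul_mem hy
            ((Subgroup.mem_normalizer_iff.mp hvn _).mp (inv_mem hy)), ?_⟩
          rw [hd, map_mul, map_mul, map_mul, map_inv, map_inv, hcv v]
          group
        have hd1 : d = 1 := by
          obtain ⟨y', hy', hy''⟩ := hdP
          by_contra hd1
          refine conj_odd (g := g⁻¹) |>.mpr (hpodd y' hy') ?_
          rw [show g⁻¹ * y' * g⁻¹⁻¹ = d from hy'',
            orderOf_eq_prime (by rw [pow_two]; exact D.mul_self hdQ) hd1]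
        rw [hd, mul_inv_eq_one, mul_inv_eq_iff_eq_mul] at hd1
        exact hd1
      have hlt : Nat.card W < Nat.card ((P : Subgroup G).map c) := by
        rw [Subgroup.card_map_of_injective (MulAut.conj g⁻¹).injective]
        refine Set.ncard_lt_ncard (Set.ssubset_iff_exists.mpr
          ⟨fun w hw => hP (mem_sup_left hw), x, hP (mem_sup_right (mem_zpowers x)),
            fun h => D.not_mem_centralizer ((hWmem x).mp h).1⟩) (Set.toFinite _)
      exact absurd (Subgroup.card_le_of_le hPW) (Nat.not_le.mpr hlt)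
    · push Not at hfix
      have hvv : v⁻¹ = v := inv_eq_of_mul_eq_one_right hv
      have he2 : v * e * v⁻¹ = e⁻¹ := by
        have hy : v * e * v⁻¹ ∈ (P : Subgroup G) := (Subgroup.mem_normalizer_iff.mp hvn e).mp heP
        have hcomm : Commute (v * e * v⁻¹) e := D.commute_of_isPGroup P.2 hy heP
        have hfx : Commute (e * (v * e * v⁻¹)) v := by
          show e * (v * e * v⁻¹) * v = v * (e * (v * e * v⁻¹))
          calc e * (v * e * v⁻¹) * v = (v * e * v⁻¹) * e * v := by rw [hcomm.eq]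
            _ = v * (e * (v⁻¹ * e * v)) := by group
            _ = v * (e * (v * e * v⁻¹)) := by rw [hvv]
        by_contra hne
        exact hfix _ (mul_mem heP hy) (fun e1 => hne (eq_inv_of_mul_eq_one_right e1)) hfx
      have hvN : v ∈ normalizer (Q : Set G) := by
        refine D.normalizer_zpowers_le hC he he1 ?_
        rw [Subgroup.mem_normalizer_iff]
        intro h
        constructor
        · rintro ⟨n, rfl⟩
          exact ⟨-n, by simp only [zpow_neg, ← conj_zpow, he2, inv_zpow]⟩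
        · rintro ⟨n, hn⟩
          refine ⟨-n, ?_⟩
          have hh : h = v⁻¹ * (e ^ n) * v := by rw [show e ^ n = v * h * v⁻¹ from hn]; group
          show e ^ (-n) = h
          rw [hh, hvv, zpow_neg, ← inv_zpow, ← he2, conj_zpow, hvv]
      have h := mem_centralizer_iff.mp he v (D.mem_of_sq hvN hv)
      rw [h, mul_inv_cancel_right] at he2
      exact he' (by
        rw [orderOf_eq_prime (by rw [pow_two]; exact mul_eq_one_iff_eq_inv.mpr he2) he1])
  obtain ⟨u, m, hu2, hu, hm, hm1, hinv⟩ := D.exists_inverted hC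
  have hmodd := D.odd_of_inverted hC hu2 hu hm hinv
  have hu1 : u ≠ 1 := fun e => hu (e ▸ one_mem _)
  obtain ⟨k', hk'⟩ := D.mix.exists_orderOf_eq D.prime D.odd D.dvd D.qgroup D.Q_ne_bot hm
    (Nat.prime_two.coprime_iff_not_dvd.mpr hmodd).symm
  set C := centralizer ({m} : Set G) with hCm
  have hCodd : ¬ 2 ∣ Nat.card C := fun hd => by
    obtain ⟨⟨v, hv⟩, hvo⟩ := exists_prime_orderOf_dvd_card' (G := C) 2 hd
    rw [Subgroup.orderOf_mk] at hvo
    have hv2 : v * v = 1 := by rw [← pow_two, ← hvo, pow_orderOf_eq_one]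
    have hv1 : v ≠ 1 := fun e => by simp [e] at hvo
    obtain ⟨g, hg⟩ := D.exists_conj_mem hv2
    set c := (MulAut.conj g⁻¹).toMonoidHom with hc
    have hcv : ∀ y, c y = g⁻¹ * y * g := fun y => by simp [hc]
    have hcm1 : c m ≠ 1 := fun e => hm1 ((MulAut.conj g⁻¹).injective (e.trans (map_one _).symm))
    have hcm : c m ∈ centralizer (Q : Set G) := hC _ hg
      (fun e => hv1 (by simpa [mul_assoc] using congrArg (fun y => g * y * g⁻¹) e)) _
      (by
        rw [← hcv]
        exact (show Commute m v from (mem_centralizer_singleton_iff.mp hv).symm).map c)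
    have hinv' : c u * c m * (c u)⁻¹ = (c m)⁻¹ := by rw [← map_inv, ← map_mul, ← map_mul, hinv, map_inv]
    have hcu2 : c u * c u = 1 := by rw [← map_mul, hu2, map_one]
    have hcu : c u ∈ normalizer (Q : Set G) := by
      refine D.normalizer_zpowers_le hC hcm hcm1 ?_
      have hvv : (c u)⁻¹ = c u := inv_eq_of_mul_eq_one_right hcu2
      rw [Subgroup.mem_normalizer_iff]
      intro h
      constructor
      · rintro ⟨n, rfl⟩
        exact ⟨-n, by simp only [zpow_neg, ← conj_zpow, hinv', inv_zpow]⟩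
      · rintro ⟨n, hn⟩
        refine ⟨-n, ?_⟩
        have hh : h = (c u)⁻¹ * (c m ^ n) * c u := by
          rw [show c m ^ n = c u * h * (c u)⁻¹ from hn]; group
        show c m ^ (-n) = h
        rw [hh, hvv, zpow_neg, ← inv_zpow, ← hinv', conj_zpow, hvv]
    have h := mem_centralizer_iff.mp hcm _ (D.mem_of_sq hcu hcu2)
    rw [h, mul_inv_cancel_right] at hinv'
    refine conj_odd (g := g⁻¹) |>.mpr hmodd ?_
    rw [show g⁻¹ * m * g⁻¹⁻¹ = c m from rfl,
      orderOf_eq_prime (by rw [pow_two]; exact mul_eq_one_iff_eq_inv.mpr hinv') hcm1]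
  have huC : zpowers u ≤ normalizer (C : Set G) := by
    rw [zpowers_le, Subgroup.mem_normalizer_iff]
    intro h
    simp only [hCm, mem_centralizer_singleton_iff]
    have hm' : u * m⁻¹ * u⁻¹ = m := by rw [← conj_inv, hinv, inv_inv]
    constructor
    · intro hh
      have h1 : Commute h m⁻¹ := (show Commute h m from hh).inv_right
      have := h1.map (MulAut.conj u).toMonoidHom
      simp only [MulEquiv.coe_toMonoidHom, MulAut.conj_apply, hm'] at this
      exact this.eq
    · intro hh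
      have := ((show Commute (u * h * u⁻¹) m from hh).map (MulAut.conj u⁻¹).toMonoidHom)
      have hm'' : u⁻¹ * m * u = m⁻¹ := by
        calc u⁻¹ * m * u = u⁻¹ * (u * m⁻¹ * u⁻¹) * u := by rw [hm']
          _ = m⁻¹ := by group
      simp only [MulEquiv.coe_toMonoidHom, MulAut.conj_apply, inv_inv, hm'',
        show u⁻¹ * (u * h * u⁻¹) * u = h by group] at this
      simpa using this.inv_right.eq
  have hcop : (Nat.card (zpowers u)).Coprime (Nat.card C) := by
    rw [Nat.card_zpowers, orderOf_eq_prime (by rw [pow_two]; exact hu2) hu1]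
    exact Nat.prime_two.coprime_iff_not_dvd.mpr hCodd
  obtain ⟨R, hR⟩ := Coprime.exists_invariant_sylow (p := p) huC hcop (Or.inl inferInstance)
  obtain ⟨P', hP'⟩ := (IsPGroup.of_card (n := k') (by rw [Nat.card_zpowers, hk']) :
    IsPGroup p (zpowers m)).exists_le_sylow
  have hP'C : (P' : Subgroup G) ≤ C := fun y hy => mem_centralizer_singleton_iff.mpr
    (D.commute_of_isPGroup P'.2 hy (hP' (mem_zpowers m))).eq
  have hRcard : Nat.card ((R : Subgroup C).map C.subtype) = Nat.card (P : Subgroup G) := by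
    rw [Subgroup.card_subtype, P.card_eq_multiplicity, R.card_eq_multiplicity]
    refine congrArg (p ^ ·) (le_antisymm ?_ ?_)
    · exact (Nat.factorization_le_iff_dvd Nat.card_pos.ne' Nat.card_pos.ne').mpr
        (Subgroup.card_subgroup_dvd_card C) p
    · have h := Subgroup.card_dvd_of_le hP'C
      rw [P'.card_eq_multiplicity] at h
      exact (D.prime.pow_dvd_iff_le_factorization Nat.card_pos.ne').mp h
  obtain ⟨R', hR'⟩ := (R.2.map C.subtype).exists_le_sylow
  have hRR' : (R' : Subgroup G) = (R : Subgroup C).map C.subtype := (Subgroup.eq_of_le_of_card_ge hR'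
    (by rw [hRcard, P.card_eq_multiplicity, R'.card_eq_multiplicity])).symm
  obtain ⟨g, hg⟩ := MulAction.exists_smul_eq G R' P
  refine hnoinv (g * u * g⁻¹) ?_ (fun e => hu1 (conj_eq_one_iff.mp e)) ?_
  · rw [show g * u * g⁻¹ * (g * u * g⁻¹) = g * (u * u) * g⁻¹ by group, hu2]; group
  · rw [← hg, Sylow.coe_subgroup_smul]
    have h : u ∈ normalizer ((R' : Subgroup G) : Set G) := by
      rw [hRR']; exact hR (mem_zpowers u)
    rw [Subgroup.mem_normalizer_iff] at h ⊢
    intro y
    rw [Subgroup.mem_pointwise_smul_iff_inv_smul_mem, Subgroup.mem_pointwise_smul_iff_inv_smul_mem,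
      ← map_inv, MulAut.smul_def, MulAut.smul_def, MulAut.conj_apply, MulAut.conj_apply, inv_inv,
      show g⁻¹ * (g * u * g⁻¹ * y * (g * u * g⁻¹)⁻¹) * g = u * (g⁻¹ * y * g) * u⁻¹ by group]
    exact h _

end Data

end Cfsg.Agent.Lib.MixedCover
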