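import Mathlib
import Cfsg.Agent.Lib.MixedCover.Central
import Cfsg.Agent.S3282

/-!
The configuration with `p = 3` and a centralizer of an involution of dihedral shape: the
Brauer–Suzuki–Wall theorem applies.
-/

set_option autoImplicit false

namespace Cfsg.Agent.Lib.MixedCover

open Subgroup
open scoped Pointwise

universe u

variable {G : Type u} [Group G] [Finite G] {p : ℕ}

theorem exists_mul_zpow {A : Subgroup G} {u g : G} (hu : u ∈ normalizer (A : Set G))
    (hg : g ∈ A ⊔ zpowers u) : ∃ a ∈ A, ∃ n : ℤ, a * u ^ n = g := by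
  have h : g ∈ ((A : Set G) * (zpowers u : Set G)) := by
    rw [← Subgroup.coe_mul_of_right_le_normalizer_left _ _ (zpowers_le.mpr hu)]
    exact hg
  obtain ⟨a, ha, _, ⟨n, rfl⟩, h⟩ := Set.mem_mul.mp h
  exact ⟨a, ha, n, h⟩

theorem zpow_eq_one_or {u : G} (hu : u * u = 1) (n : ℤ) : u ^ n = 1 ∨ u ^ n = u := by
  rcases Int.even_or_odd n with ⟨k, rfl⟩ | ⟨k, rfl⟩
  · left; rw [zpow_add, ← (Commute.refl u).mul_zpow, hu, one_zpow]
  · right; rw [zpow_add, zpow_mul, show u ^ (2 : ℤ) = 1 by rw [zpow_two, hu], one_zpow, one_mul,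
      zpow_one]

namespace Data

variable {Q : Subgroup G} {x : G} (D : Data p Q x)
include D

/-- In the exceptional configuration everything is contradictory. -/
theorem false_of_exceptional (h4 : p + 1 < 8)
    (hW : ∀ e ∈ centralizer (Q : Set G), ¬ 2 ∣ orderOf e → e = 1)
    {t k₀ : G} (ht : t ∈ Q) (ht1 : t ≠ 1) (hk₀ : Commute k₀ t) (hk₀' : ¬ 2 ∣ orderOf k₀)
    (hk₀1 : k₀ ≠ 1) : False := by
  have := Fact.mk D.prime
  have := Fact.mk Nat.prime_two
  have hp3 : p = 3 := by
    obtain ⟨a, ha⟩ := IsPGroup.iff_card.mp D.qgroup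
    rw [D.card] at ha
    have h2 := D.prime.two_le
    have hodd := D.odd
    have ha3 : a < 3 := by
      by_contra hlt
      have := Nat.pow_le_pow_right (n := 2) (by norm_num) (Nat.le_of_not_lt hlt)
      omega
    interval_cases a <;> omega
  obtain ⟨K, hK, hKmem, hKfac⟩ := D.exists_odd ht ht1
  have hk₀K : k₀ ∈ K := (hKmem k₀).mpr ⟨hk₀, hk₀'⟩
  obtain ⟨s, hs, hs1, hst⟩ : ∃ s ∈ Q, s ≠ 1 ∧ s ≠ t := by
    by_contra h
    push Not at h
    have hsub : (Q : Set G) ⊆ {1, t} := fun z hz => by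
      rcases eq_or_ne z 1 with h1 | h1
      · exact Or.inl h1
      · exact Or.inr (h z hz h1)
    have hcard := Set.ncard_le_ncard hsub (Set.toFinite _)
    rw [← Nat.card_coe_set_eq, show Nat.card (Q : Set G) = p + 1 from D.card,
      Set.ncard_pair ht1.symm] at hcard
    omega
  have htt := D.mul_self ht
  have htQ : ∀ {s : G}, s ∈ Q → s ≠ 1 → s ≠ t → ∀ q ∈ Q, q = 1 ∨ q = t ∨ q = s ∨ q = s * t := by
    intro s hs hs1 hst q hq
    have hsub : ({1, t, s, s * t} : Set G) = (Q : Set G) := by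
      refine Set.eq_of_subset_of_ncard_le ?_ ?_ (Set.toFinite _)
      · rintro z (rfl | rfl | rfl | rfl)
        exacts [one_mem Q, ht, hs, mul_mem hs ht]
      · have hne : s * t ≠ 1 := fun e => hst (by
          rw [mul_eq_one_iff_eq_inv.mp e, inv_eq_of_mul_eq_one_right htt])
        rw [Set.ncard_insert_of_notMem (by simp [ht1.symm, hs1.symm, hne.symm]),
          Set.ncard_insert_of_notMem (by simp [hst.symm, hs1]),
          Set.ncard_pair (by simp [ht1]), ← Nat.card_coe_set_eq,
          show Nat.card (Q : Set G) = p + 1 from D.card]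
        omega
    have h : q ∈ ({1, t, s, s * t} : Set G) := by rw [hsub]; exact hq
    simpa using h
  -- an involution of `Q` other than `t` inverts `K`
  have hinvK : ∀ s ∈ Q, s ≠ 1 → s ≠ t → ∀ y ∈ K, s * y * s⁻¹ = y⁻¹ := by
    intro s hs hs1 hst y hy
    have hss : s⁻¹ = s := inv_eq_of_mul_eq_one_right (D.mul_self hs)
    have hts : Commute t s := D.commute ht hs
    have hyt : Commute y t := ((hKmem y).mp hy).1
    have hy' : Commute (s * y * s⁻¹) t := (hts.symm.mul_left hyt).mul_left hts.symm.inv_left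
    have hyK : s * y * s⁻¹ ∈ K := (hKmem _).mpr ⟨hy', conj_odd.mpr ((hKmem y).mp hy).2⟩
    have hc : Commute (s * y * s⁻¹) y := D.commute_of_isPGroup hK hyK hy
    have hfix : Commute (y * (s * y * s⁻¹)) s := by
      show y * (s * y * s⁻¹) * s = s * (y * (s * y * s⁻¹))
      calc y * (s * y * s⁻¹) * s = (s * y * s⁻¹) * y * s := by rw [hc.eq]
        _ = s * (y * (s⁻¹ * y * s)) := by group
        _ = s * (y * (s * y * s⁻¹)) := by rw [hss]
    have hmem : y * (s * y * s⁻¹) ∈ centralizer (Q : Set G) := by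
      refine mem_centralizer_iff.mpr fun q hq => ?_
      rcases htQ hs hs1 hst q hq with rfl | rfl | rfl | rfl
      · simp
      · exact ((hyt.mul_left hy').symm).eq
      · exact hfix.symm.eq
      · exact ((hfix.mul_right (hyt.mul_left hy')).symm).eq
    exact eq_inv_of_mul_eq_one_right (hW _ hmem ((hKmem _).mp (mul_mem hy hyK)).2)
  have hsne : ∀ y ∈ K, y⁻¹ = y → y = 1 := fun y hy e => by
    by_contra h1
    exact ((hKmem y).mp hy).2 (by
      rw [orderOf_eq_prime (by rw [pow_two]; exact inv_eq_iff_mul_eq_one.mp e) h1])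
  -- the centralizer of a nontrivial element of `K`
  have hinvol : ∀ y ∈ K, y ≠ 1 → ∀ v : G, Commute v t → Commute v y → v * v = 1 → v ≠ 1 → v = t := by
    intro y hy hy1 v hvt hvy hv hv1
    obtain ⟨k, hk, q, hq, rfl⟩ := hKfac v hvt
    have hky : Commute k y := D.commute_of_isPGroup hK hk hy
    have hqy : Commute q y := by
      have := hky.inv_left.mul_left hvy
      rwa [inv_mul_cancel_left] at this
    have hcase : q = 1 ∨ q = t := by
      by_contra hne
      push Not at hne
      have h := hinvK q hq hne.1 hne.2 y hy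
      rw [hqy.eq, mul_inv_cancel_right] at h
      exact hy1 (hsne y hy h.symm)
    rcases hcase with h | h
    · rw [h, mul_one] at hv hv1
      exact absurd (hsne k hk (inv_eq_of_mul_eq_one_right hv)) hv1
    · rw [h] at hv ⊢
      have hkt : Commute k t := ((hKmem k).mp hk).1
      rw [show k * t * (k * t) = k * k * (t * t) by
        rw [mul_assoc, ← mul_assoc t, ← hkt.eq]; group, htt, mul_one] at hv
      rw [hsne k hk (inv_eq_of_mul_eq_one_right hv), one_mul]
  have hcent : ∀ y ∈ K, y ≠ 1 → ∃ P : Subgroup G, IsPGroup p P ∧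
      (∀ z, z ∈ P ↔ Commute z y ∧ ¬ 2 ∣ orderOf z) ∧ ∀ g, Commute g y → g ∈ P ∨ g * t ∈ P := by
    intro y hy hy1
    set M := centralizer ({y} : Set G) with hM
    have htM : t ∈ M := mem_centralizer_singleton_iff.mpr ((hKmem y).mp hy).1.symm.eq
    have hMne : M ≠ ⊤ := D.centralizer_ne_top hy1
    have h2M : 2 ∣ Nat.card M := D.two_dvd ht ht1 htM
    have htord : orderOf (⟨t, htM⟩ : M) = 2 := by
      rw [Subgroup.orderOf_mk, orderOf_eq_prime (by rw [pow_two]; exact htt) ht1]
    obtain ⟨T, hT⟩ := (IsPGroup.of_card (n := 1) (by rw [Nat.card_zpowers, htord, pow_one]) :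
      IsPGroup 2 (zpowers (⟨t, htM⟩ : M))).exists_le_sylow
    have hTcard : Nat.card (T : Subgroup M) ≤ 2 := by
      have hT' : IsPGroup 2 ((T : Subgroup M).map M.subtype) := T.2.map _
      obtain ⟨S, hS⟩ := hT'.exists_le_sylow
      obtain ⟨S₀, hS₀⟩ := D.qgroup.exists_le_sylow
      have hSQ : (S₀ : Subgroup G) = Q :=
        (Subgroup.eq_of_le_of_card_ge hS₀ (by rw [D.card]; exact D.two_part _ S₀.2)).symm
      obtain ⟨g, hg⟩ := MulAction.exists_smul_eq G S₀ S
      have hmem : ∀ z ∈ (T : Subgroup M), g⁻¹ * (z : G) * g ∈ Q := by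
        intro z hz
        have h : (z : G) ∈ ((g • S₀ : Sylow 2 G) : Subgroup G) := hg ▸ hS ⟨z, hz, rfl⟩
        rwa [Sylow.coe_subgroup_smul, Subgroup.mem_pointwise_smul_iff_inv_smul_mem, hSQ, ← map_inv,
          MulAut.smul_def, MulAut.conj_apply, inv_inv] at h
      have hsub : ((T : Subgroup M) : Set M) ⊆ {1, ⟨t, htM⟩} := by
        intro z hz
        rcases eq_or_ne z 1 with h1 | h1
        · exact Or.inl h1
        refine Or.inr (Subtype.ext (hinvol y hy hy1 z ?_ (mem_centralizer_singleton_iff.mp z.2) ?_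
          (fun e => h1 (Subtype.ext e))))
        · have h := D.commute (hmem z hz) (hmem ⟨t, htM⟩ (hT (mem_zpowers _)))
          have h' := h.map (MulAut.conj g).toMonoidHom
          simpa [mul_assoc] using h'
        · have h := D.mul_self (hmem z hz)
          rw [show g⁻¹ * (z : G) * g * (g⁻¹ * (z : G) * g) = g⁻¹ * ((z : G) * z) * g by group] at h
          simpa [mul_assoc] using congrArg (fun w => g * w * g⁻¹) h
      refine (Nat.card_coe_set_eq ((T : Subgroup M) : Set M)).le.trans
        ((Set.ncard_le_ncard hsub (Set.toFinite _)).trans ?_)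
      exact (Set.ncard_insert_le _ _).trans (by rw [Set.ncard_singleton])
    obtain ⟨S, N, hN, hc⟩ : Cfsg.HasNormalPComplement 2 M := by
      refine Transfer.hasNormalPComplement_iff_locallyPTrivial.mpr fun U hU a ha _ => ?_
      obtain ⟨S, hS⟩ := hU.exists_le_sylow
      have hU2 : Nat.card U ≤ 2 := (Subgroup.card_le_of_le hS).trans
        (by rw [S.card_eq_multiplicity, ← T.card_eq_multiplicity]; exact hTcard)
      refine mem_centralizer_iff.mpr fun u hu => ?_
      rcases eq_or_ne u 1 with rfl | hu1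
      · simp
      by_contra hne
      have hau : a * u * a⁻¹ ∈ U := (Subgroup.mem_normalizer_iff.mp ha u).mp hu
      have h3 : ({1, u, a * u * a⁻¹} : Set M) ⊆ (U : Set M) := by
        rintro z (rfl | rfl | rfl)
        exacts [one_mem U, hu, hau]
      have hcard := Set.ncard_le_ncard h3 (Set.toFinite _)
      rw [Set.ncard_insert_of_notMem (by
          simp only [Set.mem_insert_iff, Set.mem_singleton_iff, not_or]
          exact ⟨hu1.symm, fun e => hu1 (conj_eq_one_iff.mp e.symm)⟩),
        Set.ncard_pair (fun e => hne (eq_mul_inv_iff_mul_eq.mp e)), ← Nat.card_coe_set_eq] at hcard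
      have : Nat.card (U : Set M) ≤ 2 := hU2
      omega
    have hScard : Nat.card (S : Subgroup M) = 2 := by
      refine le_antisymm (by rw [S.card_eq_multiplicity, ← T.card_eq_multiplicity]; exact hTcard) ?_
      exact Nat.le_of_dvd Nat.card_pos (S.dvd_card_of_dvd_card h2M)
    have hidx : N.index = 2 := by rw [hc.symm.index_eq_card, hScard]
    have hNcop : ¬ 2 ∣ Nat.card N := by
      have h := S.card_coprime_index
      rw [hc.index_eq_card, hScard] at h
      exact Nat.prime_two.coprime_iff_not_dvd.mp h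
    have hodd : ∀ z : M, z ∈ N ↔ ¬ 2 ∣ orderOf (z : G) := by
      intro z
      rw [Subgroup.orderOf_coe]
      refine ⟨fun hz h => hNcop (h.trans (Subgroup.orderOf_dvd_natCard N hz)), fun hz => ?_⟩
      obtain ⟨m, hm⟩ := exists_pow_eq_self_of_coprime (n := 2) (x := z)
        (Nat.prime_two.coprime_iff_not_dvd.mpr hz)
      rw [← hm]
      exact pow_mem (hidx ▸ Subgroup.pow_index_mem N z) m
    refine ⟨N.map M.subtype, ?_, fun z => ⟨?_, fun hz => ?_⟩, fun g hg => ?_⟩
    · refine IsPGroup.of_card (n := (Nat.card N).primeFactorsList.length) ?_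
      rw [Subgroup.card_subtype]
      refine Nat.eq_prime_pow_of_unique_prime_dvd Nat.card_pos.ne' fun {r} hr hrd => ?_
      exact (D.sub M hMne h2M r hr (hrd.trans (Subgroup.card_subgroup_dvd_card N))).resolve_right
        fun e => hNcop (e ▸ hrd)
    · rintro ⟨z, hz, rfl⟩
      exact ⟨mem_centralizer_singleton_iff.mp z.2, (hodd z).mp hz⟩
    · exact ⟨⟨z, mem_centralizer_singleton_iff.mpr hz.1.eq⟩, (hodd _).mpr hz.2, rfl⟩
    · set g' : M := ⟨g, mem_centralizer_singleton_iff.mpr hg.eq⟩
      by_cases hgN : g' ∈ N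
      · exact Or.inl ⟨g', hgN, rfl⟩
      refine Or.inr ⟨g' * ⟨t, htM⟩, ?_, rfl⟩
      show g' * ⟨t, htM⟩ ∈ N
      rw [Subgroup.mul_mem_iff_of_index_two hidx]
      refine ⟨fun h => absurd h hgN, fun h => absurd ((hodd ⟨t, htM⟩).mp h) (not_not.mpr ?_)⟩
      show 2 ∣ orderOf t
      rw [orderOf_eq_prime (by rw [pow_two]; exact htt) ht1]
  obtain ⟨P, hP, hPmem, -⟩ := hcent k₀ hk₀K hk₀1
  have hKP : ∀ {z}, z ∈ K → z ∈ P := fun {z} hz =>
    (hPmem z).mpr ⟨D.commute_of_isPGroup hK hz hk₀K, ((hKmem z).mp hz).2⟩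
  have hPsyl : ∀ R : Subgroup G, IsPGroup p R → P ≤ R → R = P := by
    intro R hR hle
    refine le_antisymm (fun z hz => ?_) hle
    refine (hPmem z).mpr ⟨D.commute_of_isPGroup hR hz (hle (hKP hk₀K)), fun hd => ?_⟩
    obtain ⟨j, hj⟩ := hR ⟨z, hz⟩
    have h2 := hd.trans (orderOf_dvd_of_pow_eq_one (congrArg Subtype.val hj))
    exact D.odd ((Nat.prime_dvd_prime_iff_eq Nat.prime_two D.prime).mp
      (Nat.prime_two.dvd_of_dvd_pow h2)).symm
  -- for every element of `K#` the odd part of its centralizer is `P`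
  have hPeq : ∀ y ∈ K, y ≠ 1 → ∀ z, (Commute z y ∧ ¬ 2 ∣ orderOf z) ↔ z ∈ P := by
    intro y hy hy1 z
    obtain ⟨P', hP', hP'mem, -⟩ := hcent y hy hy1
    have hle : P ≤ P' := fun w hw =>
      (hP'mem w).mpr ⟨D.commute_of_isPGroup hP hw (hKP hy), ((hPmem w).mp hw).2⟩
    rw [← hP'mem z, hPsyl P' hP' hle]
  have hQP : ∀ q ∈ Q, ∀ z ∈ P, q * z * q⁻¹ ∈ P := by
    intro q hq z hz
    have hqt : Commute q t := D.commute hq ht
    have hy : q * k₀ * q⁻¹ ∈ K :=
      (hKmem _).mpr ⟨(hqt.mul_left hk₀).mul_left hqt.inv_left, conj_odd.mpr hk₀'⟩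
    refine (hPeq _ hy (fun e => hk₀1 (conj_eq_one_iff.mp e)) _).mp
      ⟨((hPmem z).mp hz).1.map (MulAut.conj q).toMonoidHom, conj_odd.mpr ((hPmem z).mp hz).2⟩
  have hPodd : ∀ z ∈ P, ¬ 2 ∣ orderOf z := fun z hz => ((hPmem z).mp hz).2
  -- `P = K`
  have hPK : P ≤ K := by
    intro z hz
    have hfix : ∀ q ∈ Q, Commute (z * (q * z * q⁻¹)) q := fun q hq => by
      have hc : Commute (q * z * q⁻¹) z := D.commute_of_isPGroup hP (hQP q hq z hz) hz
      have hqq : q⁻¹ = q := inv_eq_of_mul_eq_one_right (D.mul_self hq)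
      show z * (q * z * q⁻¹) * q = q * (z * (q * z * q⁻¹))
      calc z * (q * z * q⁻¹) * q = (q * z * q⁻¹) * z * q := by rw [hc.eq]
        _ = q * (z * (q⁻¹ * z * q)) := by group
        _ = q * (z * (q * z * q⁻¹)) := by rw [hqq]
    have hinv : ∀ q ∈ Q, q ≠ 1 → q ≠ t → q * z * q⁻¹ = z⁻¹ := by
      intro q hq hq1 hqt
      set a := z * (q * z * q⁻¹) with ha
      have haP : a ∈ P := mul_mem hz (hQP q hq z hz)
      refine eq_inv_of_mul_eq_one_right ?_
      by_contra ha1
      obtain ⟨i, hi⟩ := D.orbit ht ht1 hq hq1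
      set l := x ^ i with hl
      have hlP : ∀ w, l⁻¹ * w * l ∈ P ↔ (Commute w a ∧ ¬ 2 ∣ orderOf w) := by
        intro w
        have hb : l⁻¹ * a * l ∈ K := by
          refine (hKmem _).mpr ⟨?_, ?_⟩
          · have h := (hfix q hq).map (MulAut.conj l⁻¹).toMonoidHom
            rw [← ha] at h
            simp only [MulEquiv.coe_toMonoidHom, MulAut.conj_apply, inv_inv] at h
            rwa [show l⁻¹ * q * l = t by rw [← hi]; group] at h
          · have := (conj_odd (g := l⁻¹)).mpr (hPodd a haP)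
            rwa [inv_inv] at this
        have hb1 : l⁻¹ * a * l ≠ 1 := fun e => ha1 (by
          calc a = l * (l⁻¹ * a * l) * l⁻¹ := by group
            _ = 1 := by rw [e]; group)
        rw [← hPeq _ hb hb1]
        have ho : ¬ 2 ∣ orderOf (l⁻¹ * w * l) ↔ ¬ 2 ∣ orderOf w := by
          have := conj_odd (g := l⁻¹) (y := w)
          rwa [inv_inv] at this
        rw [ho]
        refine and_congr_left' ⟨fun h => ?_, fun h => ?_⟩
        · have := h.map (MulAut.conj l).toMonoidHom
          simpa [mul_assoc] using this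
        · have := h.map (MulAut.conj l⁻¹).toMonoidHom
          simpa [mul_assoc] using this
      have hle : ∀ w ∈ P, l⁻¹ * w * l ∈ P := fun w hw =>
        (hlP w).mpr ⟨D.commute_of_isPGroup hP hw haP, hPodd w hw⟩
      have hlN : l ∈ normalizer (P : Set G) := by
        have hmap : P.map (MulAut.conj l⁻¹).toMonoidHom = P := Subgroup.eq_of_le_of_card_ge
          (by rintro _ ⟨w, hw, rfl⟩; simpa using hle w hw)
          (by rw [Subgroup.card_map_of_injective (MulAut.conj l⁻¹).injective])
        rw [Subgroup.mem_normalizer_iff]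
        refine fun w => ⟨fun hw => ?_, fun hw => ?_⟩
        · have hw' : w ∈ P.map (MulAut.conj l⁻¹).toMonoidHom := hmap.symm ▸ hw
          obtain ⟨w', hw', rfl⟩ := hw'
          simpa [mul_assoc] using hw'
        · simpa [mul_assoc] using hle _ hw
      obtain ⟨j, hj⟩ := D.pow_pPower i
      have hU : IsPGroup p ↥(P ⊔ zpowers l) := hP.to_sup_of_normal_left'
        (IsPGroup.of_card (n := j) (by rw [Nat.card_zpowers, hj])) (zpowers_le.mpr hlN)
      have hlk : Commute l k₀ := D.commute_of_isPGroup hU (mem_sup_right (mem_zpowers l))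
        (mem_sup_left (hKP hk₀K))
      have hkq : Commute k₀ q := by
        rw [← hi]
        exact (hlk.symm.mul_right hk₀).mul_right hlk.symm.inv_right
      have h := hinvK q hq hq1 hqt k₀ hk₀K
      rw [hkq.symm.eq, mul_inv_cancel_right] at h
      exact hk₀1 (hsne k₀ hk₀K h.symm)
    have h1 := hinv s hs hs1 hst
    have h2 := hinv (s * t) (mul_mem hs ht) (fun e => hst (by
      rw [mul_eq_one_iff_eq_inv.mp e, inv_eq_of_mul_eq_one_right htt]))
      (fun e => hs1 (mul_eq_right.mp e))
    refine (hKmem z).mpr ⟨?_, hPodd z hz⟩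
    have h3 : t * z * t⁻¹ = z := by
      calc t * z * t⁻¹ = s⁻¹ * (s * t * z * (s * t)⁻¹) * s := by group
        _ = s⁻¹ * z⁻¹ * s := by rw [h2]
        _ = s⁻¹ * (s * z * s⁻¹) * s := by rw [h1]
        _ = z := by group
    exact (mul_inv_eq_iff_eq_mul.mp h3).symm
  have hKP' : P = K := le_antisymm hPK fun z hz => hKP hz
  -- the subgroup `A = K ⟨t⟩`
  set A := K ⊔ zpowers t with hA
  have hKt : ∀ y ∈ K, Commute y t := fun y hy => ((hKmem y).mp hy).1
  have htN : t ∈ normalizer (K : Set G) := centralizer_le_normalizer _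
    (mem_centralizer_iff.mpr fun y hy => (hKt y hy).eq)
  have hAdec : ∀ z ∈ A, z ∈ K ∨ z * t ∈ K := by
    intro z hz
    obtain ⟨a, ha, n, rfl⟩ := exists_mul_zpow htN hz
    rcases zpow_eq_one_or htt n with h | h <;> rw [h]
    · exact Or.inl (by rwa [mul_one])
    · exact Or.inr (by rwa [mul_assoc, htt, mul_one])
  have hAt : ∀ z, z * t ∈ K → z ∈ A := fun z hz => by
    have h := mul_mem (mem_sup_left hz : z * t ∈ A) (mem_sup_right (mem_zpowers t))
    rwa [mul_assoc, htt, mul_one] at h
  have hCy : ∀ y ∈ K, y ≠ 1 → ∀ g, Commute g y → g ∈ A := by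
    intro y hy hy1 g hg
    obtain ⟨P', -, hP'mem, hdec⟩ := hcent y hy hy1
    have hmem : ∀ w ∈ P', w ∈ K := fun w hw => hPK ((hPeq y hy hy1 w).mp ((hP'mem w).mp hw))
    rcases hdec g hg with h | h
    · exact mem_sup_left (hmem g h)
    · exact hAt g (hmem _ h)
  have hinvA : ∀ v ∈ A, v * v = 1 → v ≠ 1 → v = t := by
    intro v hv hvv hv1
    rcases hAdec v hv with h | h
    · exact absurd (hsne v h (inv_eq_of_mul_eq_one_right hvv)) hv1
    · have hvt : Commute v t := by
        have := ((hKt _ h).mul_left (Commute.refl t).inv_left)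
        rwa [mul_inv_cancel_right] at this
      have hvt2 : v * t * (v * t) = 1 := by
        rw [show v * t * (v * t) = v * (t * v) * t by group, ← hvt.eq,
          show v * (v * t) * t = (v * v) * (t * t) by group, hvv, htt, one_mul]
      have h1 := hsne _ h (inv_eq_of_mul_eq_one_right hvt2)
      rw [mul_eq_one_iff_eq_inv.mp h1, inv_eq_of_mul_eq_one_right htt]
  have hAcomm : IsMulCommutative A := by
    refine ⟨⟨fun a b => Subtype.ext ?_⟩⟩
    show (a : G) * b = b * a
    obtain ⟨c, hc, i, hci⟩ := exists_mul_zpow htN a.2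
    obtain ⟨d, hd, j, hdj⟩ := exists_mul_zpow htN b.2
    rw [← hci, ← hdj]
    exact (((D.commute_of_isPGroup hK hc hd).mul_right ((hKt c hc).zpow_right j)).mul_left
      (((hKt d hd).zpow_right i).symm.mul_right ((Commute.refl t).zpow_zpow i j))).eq
  have hstt : Commute s t := D.commute hs ht
  have hinvA' : ∀ a ∈ A, s * a * s⁻¹ = a⁻¹ := by
    intro a ha
    rcases hAdec a ha with h | h
    · exact hinvK s hs hs1 hst a h
    · have h1 := hinvK s hs hs1 hst _ h
      have e : s * a * s⁻¹ = s * (a * t) * s⁻¹ * (s * t * s⁻¹)⁻¹ := by group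
      rw [e, h1, hstt.eq, mul_inv_cancel_right, mul_inv_rev, inv_eq_of_mul_eq_one_right htt,
        mul_assoc]
      have hat : Commute a t := by
        have := ((hKt _ h).mul_left (Commute.refl t).inv_left)
        rwa [mul_inv_cancel_right] at this
      rw [hat.inv_left.eq, ← mul_assoc, htt, one_mul]
  have hH : A ⊔ zpowers s = centralizer ({t} : Set G) := by
    refine le_antisymm (sup_le (sup_le (fun y hy => mem_centralizer_singleton_iff.mpr (hKt y hy).eq)
      (zpowers_le.mpr (mem_centralizer_singleton_iff.mpr rfl)))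
      (zpowers_le.mpr (mem_centralizer_singleton_iff.mpr hstt.eq))) fun g hg => ?_
    obtain ⟨k, hk, q, hq, rfl⟩ := hKfac g (mem_centralizer_singleton_iff.mp hg)
    refine mul_mem (mem_sup_left (mem_sup_left hk)) ?_
    rcases htQ hs hs1 hst q hq with rfl | rfl | rfl | rfl
    · exact one_mem _
    · exact mem_sup_left (mem_sup_right (mem_zpowers _))
    · exact mem_sup_right (mem_zpowers _)
    · exact mul_mem (mem_sup_right (mem_zpowers _)) (mem_sup_left (mem_sup_right (mem_zpowers _)))
  have hCK : A ⊓ centralizer ({s} : Set G) = zpowers t := by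
    refine le_antisymm ?_ (zpowers_le.mpr ⟨mem_sup_right (mem_zpowers t),
      mem_centralizer_singleton_iff.mpr hstt.symm.eq⟩)
    rintro a ⟨ha, has⟩
    have h := hinvA' a ha
    have hsa : Commute s a := (show Commute a s from mem_centralizer_singleton_iff.mp has).symm
    rw [hsa.eq, mul_inv_cancel_right] at h
    rcases eq_or_ne a 1 with rfl | ha1
    · exact one_mem _
    · exact hinvA a ha (mul_eq_one_iff_eq_inv.mpr h) ha1 ▸ mem_zpowers t
  have hTI : ∀ g : G, g ∉ centralizer ({t} : Set G) →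
      A ⊓ A.map (MulAut.conj g).toMonoidHom = ⊥ := by
    intro g hg
    rw [eq_bot_iff]
    rintro z ⟨hz, w, hw, hwz⟩
    by_contra hz1
    have hz1' : z ≠ 1 := fun e => hz1 (Subgroup.mem_bot.mpr e)
    have hwz' : g * w * g⁻¹ = z := hwz
    have hw1 : w ≠ 1 := fun e => hz1' (by rw [← hwz', e]; group)
    have hsq : ∀ a ∈ A, a * a ∈ K := fun a ha => by
      rcases hAdec a ha with h | h
      · exact mul_mem h h
      · have h2 := mul_mem h h
        have hat : Commute a t := by
          have := ((hKt _ h).mul_left (Commute.refl t).inv_left)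
          rwa [mul_inv_cancel_right] at this
        rwa [show a * t * (a * t) = a * (t * a) * t by group, ← hat.eq,
          show a * (a * t) * t = a * a * (t * t) by group, htt, mul_one] at h2
    have hfixt : g * t * g⁻¹ = t := by
      by_cases h2 : z * z = 1
      · have hzt := hinvA z hz h2 hz1'
        have hw2 : w * w = 1 := by
          have e : g * (w * w) * g⁻¹ = 1 := by rw [← h2, ← hwz']; group
          exact conj_eq_one_iff.mp e
        rwa [hzt, hinvA w hw hw2 hw1] at hwz'
      · have hy' : w * w ∈ K := hsq w hw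
        have hzz : g * (w * w) * g⁻¹ = z * z := by rw [← hwz']; group
        have hzt : g * t * g⁻¹ ∈ A := hCy (z * z) (hsq z hz) h2 _ (by
          rw [← hzz]
          exact ((hKt _ hy').symm).map (MulAut.conj g).toMonoidHom)
        refine hinvA _ hzt ?_ (fun e => ht1 (conj_eq_one_iff.mp e))
        rw [show g * t * g⁻¹ * (g * t * g⁻¹) = g * (t * t) * g⁻¹ by group, htt]
        group
    exact hg (mem_centralizer_singleton_iff.mpr (mul_inv_eq_iff_eq_mul.mp hfixt))
  have hconj : ∀ a b : G, orderOf a = 2 → orderOf b = 2 → IsConj a b := by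
    obtain ⟨S₀, hS₀⟩ := D.qgroup.exists_le_sylow
    have hSQ : (S₀ : Subgroup G) = Q :=
      (Subgroup.eq_of_le_of_card_ge hS₀ (by rw [D.card]; exact D.two_part _ S₀.2)).symm
    have key : ∀ a : G, orderOf a = 2 → IsConj a t := by
      intro a ha
      obtain ⟨S, hS⟩ := (IsPGroup.of_card (n := 1) (by rw [Nat.card_zpowers, ha, pow_one]) :
        IsPGroup 2 (zpowers a)).exists_le_sylow
      obtain ⟨g, hg⟩ := MulAction.exists_smul_eq G S₀ S
      have hmem : g⁻¹ * a * g ∈ Q := by
        have h : a ∈ ((g • S₀ : Sylow 2 G) : Subgroup G) := hg ▸ hS (mem_zpowers a)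
        rwa [Sylow.coe_subgroup_smul, Subgroup.mem_pointwise_smul_iff_inv_smul_mem, hSQ, ← map_inv,
          MulAut.smul_def, MulAut.conj_apply, inv_inv] at h
      obtain ⟨i, hi⟩ := D.orbit hmem (fun e => by
        have : a = 1 := by simpa [mul_assoc] using congrArg (fun y => g * y * g⁻¹) e
        rw [this, orderOf_one] at ha; exact absurd ha (by norm_num)) ht ht1
      exact isConj_iff.mpr ⟨x ^ i * g⁻¹, by rw [← hi]; group⟩
    exact fun a b ha hb => (key a ha).trans (key b hb).symm
  obtain ⟨R, E, hcard, hRC, hEc, hERcard, -, hNR, hNX⟩ := Cfsg.Agent.S3282.result t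
    (orderOf_eq_prime (by rw [pow_two]; exact htt) ht1) A hAcomm
    (sup_le (fun y hy => mem_centralizer_singleton_iff.mpr (hKt y hy).eq)
      (zpowers_le.mpr (mem_centralizer_singleton_iff.mpr rfl)))
    (mem_sup_right (mem_zpowers t)) s (orderOf_eq_prime (by rw [pow_two]; exact D.mul_self hs) hs1)
    (mem_centralizer_singleton_iff.mpr hstt.eq)
    (fun h => hst (hinvA s h (D.mul_self hs) hs1)) hH hCK hinvA' hTI hconj
  set d := Nat.card E with hd
  set q := Nat.card R with hq
  have hd1 : 1 ≤ d := Nat.card_pos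
  have hG : Nat.card G = 2 * q * d * (d + 1) := by
    have hq1 : q - 1 = 2 * d := by omega
    have hq2 : q + 1 = 2 * (d + 1) := by omega
    rw [hq1, hq2] at hcard
    have : 2 * Nat.card G = 2 * (2 * q * d * (d + 1)) := by rw [hcard]; ring
    omega
  have hp := D.prime
  -- primes dividing `d`
  have hprime : ∀ ℓ, ℓ.Prime → ℓ ∣ d → ℓ = 2 ∨ ℓ = 3 := by
    intro ℓ hl hld
    have := Fact.mk hl
    by_contra hne
    push Not at hne
    obtain ⟨⟨e, he⟩, heo⟩ := exists_prime_orderOf_dvd_card' (G := E) ℓ hld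
    rw [Subgroup.orderOf_mk] at heo
    have he1 : e ≠ 1 := fun h => by rw [h, orderOf_one] at heo; exact hl.ne_one heo.symm
    obtain ⟨-, u, hu, huE, hinv, -⟩ := hNX (zpowers e) (zpowers_le.mpr he) (by simpa using he1)
    have hle : zpowers u ≤ normalizer (zpowers e : Set G) := by
      rw [zpowers_le, Subgroup.mem_normalizer_iff]
      intro h
      constructor
      · rintro ⟨n, rfl⟩
        exact ⟨-n, by simp only [zpow_neg, ← conj_zpow, hinv e he, inv_zpow]⟩
      · rintro ⟨n, hn⟩
        refine ⟨-n, ?_⟩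
        have huu : u⁻¹ = u := inv_eq_of_mul_eq_one_right (by
          rw [← pow_two, ← hu, pow_orderOf_eq_one])
        have hh : h = u⁻¹ * (e ^ n) * u := by rw [show e ^ n = u * h * u⁻¹ from hn]; group
        show e ^ (-n) = h
        rw [hh, huu, zpow_neg, ← inv_zpow, ← hinv e he, conj_zpow, huu]
    have hdvd := card_sup_dvd (A := zpowers e) (B := zpowers u) hle
    rw [Nat.card_zpowers, Nat.card_zpowers, heo, hu] at hdvd
    have hpH : ¬ p ∣ Nat.card ↥(zpowers e ⊔ zpowers u) := fun h => by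
      rcases hp.dvd_mul.mp (h.trans hdvd) with h1 | h1
      · exact hne.2 (by rw [← hp3]; exact ((Nat.prime_dvd_prime_iff_eq hp hl).mp h1).symm)
      · exact D.odd ((Nat.prime_dvd_prime_iff_eq hp Nat.prime_two).mp h1)
    have hH2 := D.mix.isPGroup D.dvd
      ((show 2 ∣ Nat.card (zpowers u) by rw [Nat.card_zpowers, hu]).trans
        (Subgroup.card_dvd_of_le le_sup_right)) hpH
    exact not_dvd_card_of_isPGroup hl hne.1 hH2
      ((show ℓ ∣ Nat.card (zpowers e) by rw [Nat.card_zpowers, heo]).trans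
        (Subgroup.card_dvd_of_le le_sup_left))
  -- decomposition of `N(E) = E ⟨u⟩`
  have hdecE : ∀ u : G, orderOf u = 2 → (∀ b ∈ E, u * b * u⁻¹ = b⁻¹) →
      ∀ g ∈ E ⊔ zpowers u, g ∈ E ∨ ∃ a ∈ E, g = a * u := by
    intro u hu hinv g hg
    have huu : u * u = 1 := by rw [← pow_two, ← hu, pow_orderOf_eq_one]
    have huN : u ∈ normalizer (E : Set G) := by
      rw [Subgroup.mem_normalizer_iff]
      refine fun b => ⟨fun hb => by rw [hinv b hb]; exact inv_mem hb, fun hb => ?_⟩
      have h := hinv _ hb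
      rw [inv_eq_of_mul_eq_one_right huu] at h hb
      rw [show u * (u * b * u) * u = (u * u) * b * (u * u) by group, huu, one_mul, mul_one] at h
      rw [h]
      exact inv_mem hb
    obtain ⟨a, ha, n, rfl⟩ := exists_mul_zpow huN hg
    rcases zpow_eq_one_or huu n with h | h <;> rw [h]
    · exact Or.inl (by rwa [mul_one])
    · exact Or.inr ⟨a, ha, rfl⟩
  rcases Nat.even_or_odd d with hdeven | hdodd
  · -- an involution of `E` normalizes `R`
    obtain ⟨⟨v, hv⟩, hvo⟩ := exists_prime_orderOf_dvd_card' (G := E) 2 hdeven.two_dvd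
    rw [Subgroup.orderOf_mk] at hvo
    have hv1 : v ≠ 1 := fun e => by rw [e, orderOf_one] at hvo; exact absurd hvo (by norm_num)
    have h3d : 3 ∣ d := by
      obtain ⟨g, hg⟩ := isConj_iff.mp (hconj t v (orderOf_eq_prime (by rw [pow_two]; exact htt) ht1) hvo)
      obtain ⟨hN, u, hu, huE, hinv, hND⟩ := hNX (zpowers v) (zpowers_le.mpr hv) (by simpa using hv1)
      have hk : g * k₀ * g⁻¹ ∈ E ⊔ zpowers u := by
        rw [← hND, ← hN]
        refine centralizer_le_normalizer _ (mem_centralizer_iff.mpr fun h hh => ?_)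
        obtain ⟨n, rfl⟩ := hh
        have hc : Commute (g * k₀ * g⁻¹) v := by
          rw [← hg]; exact hk₀.map (MulAut.conj g).toMonoidHom
        exact (hc.zpow_right n).symm.eq
      have hk1 : g * k₀ * g⁻¹ ≠ 1 := fun e => hk₀1 (conj_eq_one_iff.mp e)
      rcases hdecE u hu hinv _ hk with h | ⟨a, ha, hau⟩
      · obtain ⟨j, hj⟩ := hK ⟨k₀, hk₀K⟩
        obtain ⟨i, -, hi⟩ := (Nat.dvd_prime_pow hp).mp
          (orderOf_dvd_of_pow_eq_one (congrArg Subtype.val hj))
        have hord : orderOf (g * k₀ * g⁻¹) = p ^ i := by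
          rw [show g * k₀ * g⁻¹ = MulAut.conj g k₀ from rfl, MulEquiv.orderOf_eq]; exact hi
        have hi0 : i ≠ 0 := fun e => hk1 (orderOf_eq_one_iff.mp (by rw [hord, e, pow_zero]))
        have h1 := Subgroup.orderOf_dvd_natCard E h
        rw [hord] at h1
        exact hp3 ▸ (dvd_pow_self p hi0).trans h1
      · exfalso
        have huu : u * u = 1 := by rw [← pow_two, ← hu, pow_orderOf_eq_one]
        have h2 : (a * u) * (a * u) = 1 := by
          have := hinv a ha
          rw [inv_eq_of_mul_eq_one_right huu] at this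
          rw [show a * u * (a * u) = a * (u * a * u) by group, this, mul_inv_cancel]
        rw [← hau] at h2
        exact (conj_odd (g := g)).mpr hk₀'
          (by rw [orderOf_eq_prime (by rw [pow_two]; exact h2) hk1])
    have hq3 : ¬ 3 ∣ q := by omega
    have hq2 : ¬ 2 ∣ q := by omega
    have hle : zpowers v ≤ normalizer (R : Set G) := zpowers_le.mpr (hNR.symm ▸ mem_sup_right hv)
    have hdvd := card_sup_dvd (A := R) (B := zpowers v) hle
    rw [Nat.card_zpowers, hvo, ← hq] at hdvd
    have hpH : ¬ p ∣ Nat.card ↥(R ⊔ zpowers v) := fun h => by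
      rcases hp.dvd_mul.mp (h.trans hdvd) with h1 | h1
      · exact hq3 (hp3 ▸ h1)
      · exact D.odd ((Nat.prime_dvd_prime_iff_eq hp Nat.prime_two).mp h1)
    have hH2 := D.mix.isPGroup D.dvd
      ((show 2 ∣ Nat.card (zpowers v) by rw [Nat.card_zpowers, hvo]).trans
        (Subgroup.card_dvd_of_le le_sup_right)) hpH
    obtain ⟨ℓ, hl, hld⟩ := Nat.exists_prime_and_dvd (show q ≠ 1 by omega)
    exact not_dvd_card_of_isPGroup hl (fun e => hq2 (by rw [← e]; exact hld)) hH2
      (hld.trans (Subgroup.card_dvd_of_le le_sup_left))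
  · have hd2 : ¬ 2 ∣ d := fun h => by obtain ⟨m, hm⟩ := hdodd; omega
    set c := d.primeFactorsList.length
    have hdc : d = 3 ^ c := Nat.eq_prime_pow_of_unique_prime_dvd (by omega) fun {ℓ} hl hld =>
      (hprime ℓ hl hld).resolve_left fun e => hd2 (e ▸ hld)
    rcases Nat.eq_zero_or_pos c with hc0 | hc0
    · rw [hc0, pow_zero] at hdc
      obtain ⟨r, hr, hrG, hrp, hr2⟩ := D.third
      rw [hG, hdc, show q = 3 by omega] at hrG
      rcases hr.dvd_mul.mp hrG with h | h
      · rw [show (2 : ℕ) * 3 * 1 = 2 * 3 from rfl] at h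
        rcases hr.dvd_mul.mp h with h | h
        · exact hr2 ((Nat.prime_dvd_prime_iff_eq hr Nat.prime_two).mp h)
        · exact hrp (hp3 ▸ (Nat.prime_dvd_prime_iff_eq hr Nat.prime_three).mp h)
      · exact hr2 ((Nat.prime_dvd_prime_iff_eq hr Nat.prime_two).mp h)
    have hd3 : 3 ∣ d := hdc ▸ dvd_pow_self 3 hc0.ne'
    have hEp : IsPGroup p E := IsPGroup.of_card (n := c) (by rw [← hd, hdc, hp3])
    obtain ⟨Sy, hSy⟩ := hEp.exists_le_sylow
    have hSE : (Sy : Subgroup G) = E := (Subgroup.eq_of_le_of_card_ge hSy (by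
      rw [Sy.card_eq_multiplicity, ← hd, hdc, hG]
      refine le_of_eq ?_
      rw [hp3, Nat.factorization_mul (Nat.mul_ne_zero (by omega) (by omega)) (by omega),
        Nat.factorization_mul (by omega) (by omega), Finsupp.add_apply, Finsupp.add_apply,
        Nat.factorization_eq_zero_of_not_dvd (show ¬ 3 ∣ 2 * q by omega),
        Nat.factorization_eq_zero_of_not_dvd (show ¬ 3 ∣ d + 1 by omega), hdc,
        Nat.prime_three.factorization_pow, Finsupp.single_eq_same, zero_add, add_zero])).symm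
    obtain ⟨j, hj⟩ := hK ⟨k₀, hk₀K⟩
    have hk₀p : IsPGroup p (zpowers k₀) := by
      obtain ⟨i, -, hi⟩ := (Nat.dvd_prime_pow hp).mp
        (orderOf_dvd_of_pow_eq_one (congrArg Subtype.val hj))
      exact IsPGroup.of_card (n := i) (by rw [Nat.card_zpowers, hi])
    obtain ⟨S, hS⟩ := hk₀p.exists_le_sylow
    obtain ⟨g, hg⟩ := MulAction.exists_smul_eq G Sy S
    have hz : g⁻¹ * k₀ * g ∈ E := by
      have h : k₀ ∈ ((g • Sy : Sylow p G) : Subgroup G) := hg ▸ hS (mem_zpowers k₀)
      rwa [Sylow.coe_subgroup_smul, Subgroup.mem_pointwise_smul_iff_inv_smul_mem, hSE, ← map_inv,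
        MulAut.smul_def, MulAut.conj_apply, inv_inv] at h
    set z := g⁻¹ * k₀ * g with hzdef
    have hzg : z = MulAut.conj g⁻¹ k₀ := by rw [hzdef, MulAut.conj_apply, inv_inv]
    have hz1 : z ≠ 1 := fun e => hk₀1 ((MulAut.conj g⁻¹).injective (by rw [← hzg, e, map_one]))
    have hzodd : ¬ 2 ∣ orderOf z := by rw [hzg, MulEquiv.orderOf_eq]; exact hk₀'
    obtain ⟨hN, u, hu, huE, hinv, hND⟩ := hNX (zpowers z) (zpowers_le.mpr hz) (by simpa using hz1)
    set v := g⁻¹ * t * g with hvdef
    have hvz : Commute z v := by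
      have h := hk₀.map (MulAut.conj g⁻¹).toMonoidHom
      simpa [hzdef, hvdef, mul_assoc] using h
    have hv2 : orderOf v = 2 := by
      rw [show v = MulAut.conj g⁻¹ t by rw [hvdef, MulAut.conj_apply, inv_inv],
        MulEquiv.orderOf_eq, orderOf_eq_prime (by rw [pow_two]; exact htt) ht1]
    have hvm : v ∈ E ⊔ zpowers u := by
      rw [← hND, ← hN]
      refine centralizer_le_normalizer _ (mem_centralizer_iff.mpr fun h hh => ?_)
      obtain ⟨n, rfl⟩ := hh
      exact (hvz.zpow_left n).eq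
    rcases hdecE u hu hinv v hvm with h | ⟨a, ha, hau⟩
    · exact hd2 (hv2 ▸ Subgroup.orderOf_dvd_natCard E h)
    · have haz : Commute a z := congrArg Subtype.val (hEc.is_comm.comm ⟨a, ha⟩ ⟨z, hz⟩)
      have hvzv : v * z * v⁻¹ = z⁻¹ := by
        calc v * z * v⁻¹ = a * (u * z * u⁻¹) * a⁻¹ := by rw [hau]; group
          _ = a * z⁻¹ * a⁻¹ := by rw [hinv z hz]
          _ = z⁻¹ := by rw [haz.inv_right.eq, mul_inv_cancel_right]
      rw [hvz.symm.eq, mul_inv_cancel_right] at hvzv
      exact hzodd (by rw [orderOf_eq_prime (by rw [pow_two]; exact mul_eq_one_iff_eq_inv.mpr hvzv) hz1])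

end Data

end Cfsg.Agent.Lib.MixedCover
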