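import Mathlib
import Cfsg.Agent.Lib.MixedCover.Count

/-!
The configuration in which `Q` is the centralizer of each of its involutions: the order of the
group is `p (p + 1) (p + 2)`, and there is a normal complement to a Sylow subgroup.
-/

set_option autoImplicit false

namespace Cfsg.Agent.Lib.MixedCover

open Subgroup

universe u

variable {G : Type u} [Group G] [Finite G] {p : ℕ}

namespace Data

variable {Q : Subgroup G} {x : G} (D : Data p Q x)
  (hC : ∀ t ∈ Q, t ≠ 1 → ∀ g : G, Commute g t → g ∈ centralizer (Q : Set G))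
include D hC

theorem mem_Q_of_centralizer {g : G} (hg : g ∈ centralizer (Q : Set G)) : g ∈ Q := by
  obtain ⟨t, ht, ht1⟩ := D.exists_mem_ne
  obtain ⟨K, -, hmem, hfac⟩ := D.exists_odd ht ht1
  obtain ⟨k, hk, q, hq, rfl⟩ := hfac g (mem_centralizer_iff.mp hg t ht).symm
  have hkC : k ∈ centralizer (Q : Set G) := hC t ht ht1 k ((hmem k).mp hk).1
  rw [D.odd_centralizer_eq_one hC hkC ((hmem k).mp hk).2, one_mul]
  exact hq

theorem orderOf_x : orderOf x = p := by
  obtain ⟨t, ht, ht1⟩ := D.exists_mem_ne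
  obtain ⟨k, hk⟩ := D.xpow
  have hinj : Set.InjOn (fun i : ℕ => x ^ i * t * (x ^ i)⁻¹) (Set.Iio (orderOf x)) := by
    intro i hi j hj hij
    wlog hle : i ≤ j generalizing i j
    · exact (this hj hi hij.symm (le_of_not_ge hle)).symm
    have hc : Commute (x ^ (j - i)) t := by
      have e : x ^ j = x ^ i * x ^ (j - i) := by rw [← pow_add, Nat.add_sub_cancel' hle]
      simp only at hij
      rw [e, mul_inv_rev] at hij
      have h2 : t = x ^ (j - i) * t * (x ^ (j - i))⁻¹ := by
        have h3 := congrArg (fun g => (x ^ i)⁻¹ * g * x ^ i) hij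
        simpa [mul_assoc] using h3
      exact mul_inv_eq_iff_eq_mul.mp h2.symm
    have hQ := D.mem_Q_of_centralizer hC (hC t ht ht1 _ hc)
    obtain ⟨l, hl⟩ := D.pow_pPower (j - i)
    have h2 : orderOf (x ^ (j - i)) ∣ 2 :=
      orderOf_dvd_of_pow_eq_one (by rw [pow_two]; exact D.mul_self hQ)
    rw [hl] at h2
    rcases (Nat.dvd_prime Nat.prime_two).mp h2 with h3 | h3
    · rw [← hl, orderOf_eq_one_iff] at h3
      by_contra hne
      have hpos : 0 < j - i := Nat.sub_pos_of_lt (lt_of_le_of_ne hle hne)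
      have hd := Nat.le_of_dvd hpos (orderOf_dvd_of_pow_eq_one h3)
      have : j < orderOf x := hj
      omega
    · exact absurd ((Nat.prime_dvd_prime_iff_eq D.prime Nat.prime_two).mp
        ((dvd_pow_self p (fun e => by simp [e] at h3)).trans h3.dvd)) D.odd
  have hsub : (fun i : ℕ => x ^ i * t * (x ^ i)⁻¹) '' Set.Iio (orderOf x) ⊆ (Q : Set G) \ {1} := by
    rintro _ ⟨i, -, rfl⟩
    exact ⟨(Subgroup.mem_normalizer_iff.mp (pow_mem D.xnorm i) t).mp ht,
      fun e => ht1 (conj_eq_one_iff.mp (Set.mem_singleton_iff.mp e))⟩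
  have h := Set.ncard_le_ncard hsub (Set.toFinite _)
  rw [hinj.ncard_image, Set.ncard_diff_singleton_of_mem (one_mem Q),
    ← Nat.card_coe_set_eq (Q : Set G), show Nat.card (Q : Set G) = p + 1 from D.card,
    ← Finset.coe_Iio, Set.ncard_coe_finset, Nat.card_Iio] at h
  have h1 : orderOf x ≠ 1 := fun e => D.not_mem_centralizer (by
    rw [orderOf_eq_one_iff.mp e]; exact one_mem _)
  rw [hk] at h h1 ⊢
  rcases Nat.lt_or_ge k 2 with hk2 | hk2
  · interval_cases k
    · simp at h1
    · rw [pow_one]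
  · have := Nat.pow_le_pow_right D.prime.pos hk2
    have := Nat.lt_pow_self D.prime.one_lt (n := 2)
    have : p < p ^ 2 := lt_self_pow₀ D.prime.one_lt (by norm_num)
    omega

theorem exists_pow_mul {n : G} (hn : n ∈ normalizer (Q : Set G)) :
    ∃ i : ℕ, ∃ q ∈ Q, x ^ i * q = n := by
  obtain ⟨t, ht, ht1⟩ := D.exists_mem_ne
  obtain ⟨i, hi⟩ := D.orbit ht ht1 ((Subgroup.mem_normalizer_iff.mp hn t).mp ht)
    (fun e => ht1 (conj_eq_one_iff.mp e))
  refine ⟨i, (x ^ i)⁻¹ * n, D.mem_Q_of_centralizer hC (hC t ht ht1 _ ?_), by group⟩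
  show (x ^ i)⁻¹ * n * t = t * ((x ^ i)⁻¹ * n)
  calc (x ^ i)⁻¹ * n * t = (x ^ i)⁻¹ * (n * t * n⁻¹) * n := by group
    _ = (x ^ i)⁻¹ * (x ^ i * t * (x ^ i)⁻¹) * n := by rw [hi]
    _ = t * ((x ^ i)⁻¹ * n) := by group

theorem card_normalizer_le : Nat.card (normalizer (Q : Set G)) ≤ p * (p + 1) := by
  have hle : normalizer (Q : Set G) ≤ Q ⊔ zpowers x := by
    intro n hn
    obtain ⟨i, q, hq, rfl⟩ := D.exists_pow_mul hC hn
    exact mul_mem (mem_sup_right (pow_mem (mem_zpowers x) i)) (mem_sup_left hq)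
  refine (Subgroup.card_le_of_le hle).trans (Nat.le_of_dvd ?_ ?_)
  · have := D.prime.pos; positivity
  · have h := card_sup_dvd (A := Q) (B := zpowers x) (zpowers_le.mpr D.xnorm)
    rwa [Nat.card_zpowers, D.orderOf_x hC, D.card, mul_comm] at h

omit hC in
theorem eq_one_of_mem_of_pPrime {a : G} (ha : a ∈ Q) (h : ¬ 2 ∣ orderOf a) : a = 1 := by
  by_contra h1
  exact h (by rw [orderOf_eq_prime (hp := ⟨Nat.prime_two⟩) (by rw [pow_two]; exact D.mul_self ha) h1])

theorem x_mem_zpowers {a : G} (ha : a ∈ zpowers x) (ha1 : a ≠ 1) : x ∈ zpowers a := by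
  have := Fact.mk D.prime
  have h : zpowers a = zpowers x := by
    refine Subgroup.eq_of_le_of_card_ge (zpowers_le.mpr ha) ?_
    rw [Nat.card_zpowers, Nat.card_zpowers, D.orderOf_x hC]
    refine Nat.le_of_dvd (orderOf_pos a) ?_
    obtain ⟨n, rfl⟩ := ha
    rcases (Nat.dvd_prime D.prime).mp (D.orderOf_x hC ▸ orderOf_dvd_of_pow_eq_one (x := x ^ n)
      (n := orderOf x) (by rw [← zpow_natCast, ← zpow_mul, mul_comm, zpow_mul, zpow_natCast,
        pow_orderOf_eq_one, one_zpow])) with h | h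
    · exact absurd (orderOf_eq_one_iff.mp h) ha1
    · exact h ▸ dvd_rfl
  exact h ▸ mem_zpowers x

theorem fpf_pow {a q : G} (ha : a ∈ zpowers x) (ha1 : a ≠ 1) (hq : q ∈ Q) (hc : Commute q a) :
    q = 1 := by
  have h : q ∈ Q ⊓ centralizer ({x} : Set G) := by
    refine ⟨hq, mem_centralizer_singleton_iff.mpr ?_⟩
    obtain ⟨n, hn⟩ := D.x_mem_zpowers hC ha ha1
    rw [← hn]
    exact (hc.zpow_right n).eq
  rwa [D.fpf, Subgroup.mem_bot] at h

/-- An element of odd order of `N(Q)` is conjugate by an element of `Q` to a power of `x`. -/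
theorem exists_conj_pow {d : G} (hd : d ∈ normalizer (Q : Set G)) (hd' : ¬ 2 ∣ orderOf d)
    (hd1 : d ≠ 1) : ∃ q ∈ Q, ∃ i : ℕ, x ^ i ≠ 1 ∧ q * x ^ i * q⁻¹ = d := by
  obtain ⟨i, q₀, hq₀, rfl⟩ := D.exists_pow_mul hC hd
  have hi : x ^ i ≠ 1 := fun e => hd1 (by
    rw [e, one_mul] at hd' ⊢
    exact D.eq_one_of_mem_of_pPrime hq₀ hd')
  have hxi : x ^ i ∈ zpowers x := pow_mem (mem_zpowers x) i
  set f : Q → Q := fun q => ⟨(x ^ i)⁻¹ * q * x ^ i * (q : G)⁻¹, mul_mem (by
    simpa using (Subgroup.mem_normalizer_iff.mp (inv_mem (pow_mem D.xnorm i)) (q : G)).mp q.2)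
    (inv_mem q.2)⟩ with hf
  have hinj : Function.Injective f := by
    intro a b hab
    have h : (x ^ i)⁻¹ * (a : G) * x ^ i * (a : G)⁻¹ = (x ^ i)⁻¹ * (b : G) * x ^ i * (b : G)⁻¹ :=
      congrArg Subtype.val hab
    have hc : Commute ((b : G)⁻¹ * a) (x ^ i) := by
      show (b : G)⁻¹ * a * x ^ i = x ^ i * ((b : G)⁻¹ * a)
      calc (b : G)⁻¹ * a * x ^ i = (b : G)⁻¹ * x ^ i * ((x ^ i)⁻¹ * a * x ^ i * (a : G)⁻¹) * a := by group
        _ = (b : G)⁻¹ * x ^ i * ((x ^ i)⁻¹ * b * x ^ i * (b : G)⁻¹) * a := by rw [h]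
        _ = x ^ i * ((b : G)⁻¹ * a) := by group
    exact Subtype.ext (inv_mul_eq_one.mp (D.fpf_pow hC hxi hi (mul_mem (inv_mem b.2) a.2) hc)).symm
  obtain ⟨q, hq⟩ := Finite.surjective_of_injective hinj ⟨q₀, hq₀⟩
  refine ⟨q, q.2, i, hi, ?_⟩
  have h : (x ^ i)⁻¹ * (q : G) * x ^ i * (q : G)⁻¹ = q₀ := congrArg Subtype.val hq
  rw [← h]
  group

/-- An involution outside `N(Q)` and the elements of `N(Q)` it conjugates into `N(Q)`. -/
theorem card_meet_le {u : G} (hu : u ∉ normalizer (Q : Set G)) :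
    Nat.card ↥(normalizer (Q : Set G) ⊓ (normalizer (Q : Set G)).comap (MulAut.conj u).toMonoidHom)
      ≤ p := by
  set E := normalizer (Q : Set G) ⊓ (normalizer (Q : Set G)).comap (MulAut.conj u).toMonoidHom
  have hdis : E ⊓ Q = ⊥ := by
    rw [eq_bot_iff]
    rintro s ⟨⟨-, hs2⟩, hsQ⟩
    by_contra hs1
    have hs1' : s ≠ 1 := fun e => hs1 (Subgroup.mem_bot.mpr e)
    refine hu (D.mem_normalizer_of_conj hC hsQ hs1' (D.mem_of_sq hs2 ?_))
    show u * s * u⁻¹ * (u * s * u⁻¹) = 1
    rw [show u * s * u⁻¹ * (u * s * u⁻¹) = u * (s * s) * u⁻¹ by group, D.mul_self hsQ]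
    group
  have h := SFourFree.card_sup_mul_card_inf (A := Q) (B := E) inf_le_left
  rw [inf_comm, hdis, Subgroup.card_bot, mul_one, D.card] at h
  have h2 := Subgroup.card_le_of_le (sup_le Subgroup.le_normalizer inf_le_left :
    Q ⊔ E ≤ normalizer (Q : Set G))
  rw [h] at h2
  have h3 := h2.trans (D.card_normalizer_le hC)
  rw [mul_comm p (p + 1)] at h3
  exact Nat.le_of_mul_le_mul_left h3 (Nat.succ_pos p)

/-- Every coset of `N(Q)` other than itself contains an involution inverting a nontrivial element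
of `N(Q)`. -/
theorem exists_inverted_in_coset {g : G} (hg : g ∉ normalizer (Q : Set G)) :
    ∃ u m : G, u * u = 1 ∧ g⁻¹ * u ∈ normalizer (Q : Set G) ∧ m ∈ normalizer (Q : Set G) ∧ m ≠ 1 ∧
      u * m * u⁻¹ = m⁻¹ := by
  set N := normalizer (Q : Set G) with hN
  classical
  have := Fintype.ofFinite G
  have := Fintype.ofFinite (G ⧸ N)
  set I := {u : G | u * u = 1 ∧ u ≠ 1} with hI
  set π : G → G ⧸ N := fun u => (u : G ⧸ N)
  have hle : ∀ c : G ⧸ N, (I.toFinset.filter (fun u => π u = c)).card ≤ p := by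
    intro c
    rcases eq_or_ne c ((1 : G) : G ⧸ N) with rfl | hc
    · refine le_trans (le_of_eq ?_) (D.ncard_fibre_one_le (c := ((1 : G) : G ⧸ N)) rfl)
      rw [← Set.ncard_coe_finset]
      congr 1
      ext u
      simp [hI, π]
      exact fun _ _ => Iff.rfl
    rcases Finset.eq_empty_or_nonempty (I.toFinset.filter (fun u => π u = c)) with he | ⟨a, ha⟩
    · simp [he]
    simp only [Finset.mem_filter, Set.mem_toFinset] at ha
    have haN : a ∉ N := fun h => hc (by rw [← ha.2]; exact QuotientGroup.eq.mpr (by simpa using h))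
    refine le_trans ?_ (D.card_meet_le hC haN)
    rw [← Set.ncard_coe_finset]
    refine Set.ncard_le_ncard_of_injOn (fun u => a⁻¹ * u) (fun u hu => ?_)
      (fun u _ v _ h => mul_left_cancel h) (Set.toFinite _)
    simp only [Finset.coe_filter, Set.mem_toFinset, Set.mem_setOf_eq] at hu
    have hm : a⁻¹ * u ∈ N := QuotientGroup.eq.mp (ha.2.trans hu.2.symm)
    refine Subgroup.mem_inf.mpr ⟨hm, ?_⟩
    show a * (a⁻¹ * u) * a⁻¹ ∈ N
    rw [inverted_of_coset ha.1.1 hu.1.1]
    exact inv_mem hm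
  have hsum := Finset.card_eq_sum_card_fiberwise (f := π) (s := I.toFinset)
    (t := (Finset.univ : Finset (G ⧸ N))) (fun _ _ => Finset.mem_univ _)
  have hI' : N.index * p ≤ I.toFinset.card := by
    rw [← Set.ncard_eq_toFinset_card']
    exact D.le_ncard_involutions hC
  have hfib : (I.toFinset.filter (fun u => π u = (g : G ⧸ N))).card = p := by
    refine le_antisymm (hle _) ?_
    rw [← Finset.add_sum_erase _ _ (Finset.mem_univ (g : G ⧸ N))] at hsum
    have hs : ∑ c ∈ Finset.univ.erase (g : G ⧸ N),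
        (I.toFinset.filter (fun u => π u = c)).card ≤ (N.index - 1) * p := by
      refine (Finset.sum_le_sum fun c _ => hle c).trans (le_of_eq ?_)
      rw [Finset.sum_const, smul_eq_mul, Finset.card_erase_of_mem (Finset.mem_univ _),
        Finset.card_univ, ← Nat.card_eq_fintype_card]
      rfl
    have hidx : 1 ≤ N.index := (Subgroup.one_lt_index_of_ne_top D.normalizer_ne_top).le
    have hmul : (N.index - 1) * p + p = N.index * p := by
      rw [Nat.sub_mul, one_mul, Nat.sub_add_cancel (Nat.le_mul_of_pos_left p hidx)]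
    have h := hI'.trans (hsum ▸ Nat.add_le_add_left hs _)
    rw [← hmul] at h
    omega
  obtain ⟨a, ha, b, hb, hab⟩ := Finset.one_lt_card.mp (by rw [hfib]; exact D.prime.one_lt :
    1 < (I.toFinset.filter (fun u => π u = (g : G ⧸ N))).card)
  simp only [Finset.mem_filter, Set.mem_toFinset] at ha hb
  exact ⟨a, a⁻¹ * b, ha.1.1, QuotientGroup.eq.mp ha.2.symm, QuotientGroup.eq.mp (ha.2.trans hb.2.symm),
    fun e => hab (inv_mul_eq_one.mp e), inverted_of_coset ha.1.1 hb.1.1⟩

theorem x_sq_ne : x * x ≠ 1 := fun e => D.odd (by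
  have h := orderOf_dvd_of_pow_eq_one (show x ^ 2 = 1 by rw [pow_two]; exact e)
  rw [D.orderOf_x hC] at h
  exact (Nat.prime_dvd_prime_iff_eq D.prime Nat.prime_two).mp h)

/-- No element of `N(Q)` inverts `x`. -/
theorem not_invert {n : G} (hn : n ∈ normalizer (Q : Set G)) (h : n * x * n⁻¹ = x⁻¹) : False := by
  obtain ⟨i, q, hq, rfl⟩ := D.exists_pow_mul hC hn
  have hq' : q * x * q⁻¹ = x⁻¹ := by
    have h2 : q * x * q⁻¹ = (x ^ i)⁻¹ * x⁻¹ * x ^ i := by rw [← h]; group
    rw [h2, ((Commute.refl x).pow_left i).inv_inv.eq]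
    group
  have hmem : x * x ∈ Q := by
    have h1 : (x * q * x⁻¹)⁻¹ * q ∈ Q :=
      mul_mem (inv_mem ((Subgroup.mem_normalizer_iff.mp D.xnorm q).mp hq)) hq
    have h2 : (x * q * x⁻¹)⁻¹ * q = x * x := by
      have e2 : q * x * q⁻¹ * q = x⁻¹ * q := by rw [hq']
      rw [inv_mul_cancel_right] at e2
      calc (x * q * x⁻¹)⁻¹ * q = x * q⁻¹ * (x⁻¹ * q) := by group
        _ = x * q⁻¹ * (q * x) := by rw [e2]
        _ = x * x := by group
    exact h2 ▸ h1
  refine D.x_sq_ne hC (D.eq_one_of_mem_of_pPrime hmem fun hd => ?_)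
  have h2 := hd.trans (by simpa [pow_two] using orderOf_pow_dvd (x := x) 2)
  rw [D.orderOf_x hC] at h2
  exact D.odd ((Nat.prime_dvd_prime_iff_eq Nat.prime_two D.prime).mp h2).symm

/-- The coset involution inverting `x`. -/
theorem exists_invert {g : G} (hg : g ∉ normalizer (Q : Set G))
    (hgx : g⁻¹ * x * g ∈ normalizer (Q : Set G)) :
    ∃ u : G, u * u = 1 ∧ g⁻¹ * u ∈ normalizer (Q : Set G) ∧ u * x * u⁻¹ = x⁻¹ := by
  obtain ⟨u, m, hu2, hgu, hm, hm1, hinv⟩ := D.exists_inverted_in_coset hC hg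
  set N := normalizer (Q : Set G)
  have huN : u ∉ N := fun h => hg (by
    have := mul_mem h (inv_mem hgu)
    simpa using this)
  set E := N ⊓ N.comap (MulAut.conj u).toMonoidHom
  have hxE : x ∈ E := by
    refine Subgroup.mem_inf.mpr ⟨D.xnorm, ?_⟩
    show u * x * u⁻¹ ∈ N
    have h := mul_mem (mul_mem (inv_mem hgu) hgx) hgu
    rwa [show (g⁻¹ * u)⁻¹ * (g⁻¹ * x * g) * (g⁻¹ * u) = u⁻¹ * x * u by group,
      show u⁻¹ * x * u = u * x * u⁻¹ by rw [inv_eq_of_mul_eq_one_right hu2]] at h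
  have hEq : zpowers x = E := Subgroup.eq_of_le_of_card_ge (zpowers_le.mpr hxE)
    (by rw [Nat.card_zpowers, D.orderOf_x hC]; exact D.card_meet_le hC huN)
  have hmE : m ∈ E := Subgroup.mem_inf.mpr ⟨hm, show u * m * u⁻¹ ∈ N by rw [hinv]; exact inv_mem hm⟩
  obtain ⟨n, hn⟩ := D.x_mem_zpowers hC (hEq ▸ hmE) hm1
  refine ⟨u, hu2, hgu, ?_⟩
  rw [← hn, ← conj_zpow, hinv, inv_zpow]

/-- `C(x) = ⟨x⟩`. -/
theorem centralizer_x {c : G} (hc : Commute c x) : c ∈ zpowers x := by
  by_cases hcN : c ∈ normalizer (Q : Set G)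
  · obtain ⟨i, q, hq, rfl⟩ := D.exists_pow_mul hC hcN
    have hqx : Commute q x := by
      have := ((Commute.refl x).pow_left i).inv_left.mul_left hc
      simpa using this
    rw [D.fpf_pow hC (mem_zpowers x) (fun e => D.x_sq_ne hC (by rw [e, one_mul])) hq hqx, mul_one]
    exact pow_mem (mem_zpowers x) i
  · exfalso
    obtain ⟨u, hu2, hcu, hux⟩ := D.exists_invert hC hcN (by
      rw [mul_assoc, ← hc.eq, inv_mul_cancel_left]; exact D.xnorm)
    refine D.not_invert hC hcu ?_
    calc c⁻¹ * u * x * (c⁻¹ * u)⁻¹ = c⁻¹ * (u * x * u⁻¹) * c := by group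
      _ = c⁻¹ * x⁻¹ * c := by rw [hux]
      _ = x⁻¹ := by rw [mul_assoc, ← hc.inv_right.eq, inv_mul_cancel_left]

/-- The index of `N(Q)`. -/
theorem index_eq : (normalizer (Q : Set G)).index = p + 2 := by
  set N := normalizer (Q : Set G) with hN
  -- the unique other fixed coset of `x`
  have hstep : ∀ g, g ∉ N → ∃ q ∈ Q, (q * g)⁻¹ * x * (q * g) ∈ N := by
    intro g hg
    obtain ⟨u, m, hu2, hgu, hm, hm1, hinv⟩ := D.exists_inverted_in_coset hC hg
    have huN : u ∉ N := fun h => hg (by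
      have := mul_mem h (inv_mem hgu)
      simpa using this)
    obtain ⟨q, hq, i, hi, rfl⟩ := D.exists_conj_pow hC hm (D.odd_of_inverted hC hu2 huN hm hinv) hm1
    refine ⟨q⁻¹, inv_mem hq, ?_⟩
    obtain ⟨n, hn⟩ := D.x_mem_zpowers hC (pow_mem (mem_zpowers x) i) hi
    simp only at hn
    have hxq : q * x * q⁻¹ = (q * x ^ i * q⁻¹) ^ n := by rw [conj_zpow, hn]
    have huu : u⁻¹ = u := inv_eq_of_mul_eq_one_right hu2
    have h1 : u⁻¹ * (q * x * q⁻¹) * u ∈ N := by
      have e : u⁻¹ * (q * x * q⁻¹) * u = (u * (q * x ^ i * q⁻¹) * u⁻¹) ^ n := by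
        rw [hxq, huu]
        have := map_zpow (MulAut.conj u) (q * x ^ i * q⁻¹) n
        simp only [MulAut.conj_apply, huu] at this
        exact this
      rw [e, hinv]
      exact zpow_mem (inv_mem hm) n
    have h := mul_mem (mul_mem hgu h1) (inv_mem hgu)
    have e : g⁻¹ * u * (u⁻¹ * (q * x * q⁻¹) * u) * (g⁻¹ * u)⁻¹ = (q⁻¹ * g)⁻¹ * x * (q⁻¹ * g) := by
      group
    rwa [e] at h
  obtain ⟨g₀, hg₀⟩ : ∃ g, g ∉ N := by
    by_contra h
    push Not at h
    exact D.normalizer_ne_top ((Subgroup.eq_top_iff' _).mpr h)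
  obtain ⟨q₀, hq₀, hx₀⟩ := hstep g₀ hg₀
  have hqg : ∀ {q g : G}, q ∈ Q → g ∉ N → q * g ∉ N := fun hq hg h =>
    hg ((Subgroup.mul_mem_cancel_left N (Subgroup.le_normalizer hq)).mp h)
  obtain ⟨u₁, hu₁, hgu₁, hux₁⟩ := D.exists_invert hC (hqg hq₀ hg₀) hx₀
  have hu₁N : u₁ ∉ N := fun h => hqg hq₀ hg₀ (by
    have := mul_mem h (inv_mem hgu₁)
    simpa using this)
  let f : Option Q → G ⧸ N := fun o => o.elim ((1 : G) : G ⧸ N) fun q => (((q : G) * u₁ : G) : G ⧸ N)
  have hbij : Function.Bijective f := by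
    constructor
    · have hne : ∀ q : Q, ((1 : G) : G ⧸ N) ≠ (((q : G) * u₁ : G) : G ⧸ N) := fun q h => by
        have := QuotientGroup.eq.mp h
        simp only [inv_one, one_mul] at this
        exact hqg q.2 hu₁N this
      rintro (_ | a) (_ | b) h
      · rfl
      · exact absurd h (hne b)
      · exact absurd h.symm (hne a)
      · have h1 := QuotientGroup.eq.mp h
        have h2 : u₁ * ((a : G)⁻¹ * b) * u₁⁻¹ ∈ N := by
          rw [inv_eq_of_mul_eq_one_right hu₁]
          simpa [mul_assoc, inv_eq_of_mul_eq_one_right hu₁] using h1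
        by_contra hab
        refine hu₁N (D.mem_normalizer_of_conj hC (mul_mem (inv_mem a.2) b.2)
          (fun e => hab (congrArg some (Subtype.ext (inv_mul_eq_one.mp e)))) (D.mem_of_sq h2 ?_))
        rw [show u₁ * ((a : G)⁻¹ * b) * u₁⁻¹ * (u₁ * ((a : G)⁻¹ * b) * u₁⁻¹) =
          u₁ * (((a : G)⁻¹ * b) * ((a : G)⁻¹ * b)) * u₁⁻¹ by group,
          D.mul_self (mul_mem (inv_mem a.2) b.2)]
        group
    · intro c
      induction c using QuotientGroup.induction_on with | _ g => ?_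
      by_cases hg : g ∈ N
      · exact ⟨none, QuotientGroup.eq.mpr (by simpa using hg)⟩
      obtain ⟨q, hq, hxq⟩ := hstep g hg
      obtain ⟨u₂, hu₂, hgu₂, hux₂⟩ := D.exists_invert hC (hqg hq hg) hxq
      refine ⟨some ⟨q⁻¹, inv_mem hq⟩, ?_⟩
      show (((q⁻¹ * u₁ : G)) : G ⧸ N) = g
      have hc : Commute (u₁ * u₂) x := by
        show u₁ * u₂ * x = x * (u₁ * u₂)
        calc u₁ * u₂ * x = u₁ * (u₂ * x * u₂⁻¹) * u₂ := by group
          _ = u₁ * x⁻¹ * u₂ := by rw [hux₂]
          _ = (u₁ * x * u₁⁻¹)⁻¹ * u₁ * u₂ := by group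
          _ = x * (u₁ * u₂) := by rw [hux₁, inv_inv, mul_assoc]
      have h12 : u₁⁻¹ * u₂ ∈ N := by
        rw [inv_eq_of_mul_eq_one_right hu₁]
        exact zpowers_le.mpr D.xnorm (D.centralizer_x hC hc)
      rw [QuotientGroup.eq]
      have h := mul_mem h12 (inv_mem hgu₂)
      convert h using 1
      group
  rw [Subgroup.index, ← Nat.card_eq_of_bijective f hbij, Finite.card_option, D.card]

theorem card_normalizer_eq : Nat.card (normalizer (Q : Set G)) = p * (p + 1) := by
  refine le_antisymm (D.card_normalizer_le hC) ?_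
  have h := SFourFree.card_sup_mul_card_inf (A := Q) (B := zpowers x) (zpowers_le.mpr D.xnorm)
  have hi : Q ⊓ zpowers x = ⊥ := by
    rw [eq_bot_iff]
    rintro a ⟨ha, n, rfl⟩
    exact Subgroup.mem_bot.mpr (by_contra fun h1 => h1 (D.fpf_pow hC ⟨n, rfl⟩ h1 ha (Commute.refl _)))
  rw [hi, Subgroup.card_bot, mul_one, Nat.card_zpowers, D.orderOf_x hC, D.card] at h
  rw [mul_comm p, ← h]
  exact Subgroup.card_le_of_le (sup_le Subgroup.le_normalizer (zpowers_le.mpr D.xnorm))

/-- The final contradiction. -/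
theorem false_of_centralizes : False := by
  have hp2 := D.prime.two_le
  have hp3 : 3 ≤ p := by have := D.odd; omega
  have := Fact.mk D.prime
  have := Fact.mk Nat.prime_two
  have hcard : Nat.card G = p * (p + 1) * (p + 2) := by
    rw [← (normalizer (Q : Set G)).card_mul_index, D.card_normalizer_eq hC, D.index_eq hC]
  obtain ⟨a, ha⟩ := IsPGroup.iff_card.mp D.qgroup
  rw [D.card] at ha
  have ha2 : 2 ≤ a := by
    by_contra hlt
    interval_cases a <;> omega
  have hpp : p = 2 ^ a - 1 := by omega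
  have hap : a.Prime := Nat.prime_of_pow_sub_one_prime (by omega) (hpp ▸ D.prime) |>.2
  have hodd : ¬ 2 ∣ p + 2 := fun hd => D.odd ((Nat.prime_dvd_prime_iff_eq Nat.prime_two D.prime).mp
    ((Nat.dvd_add_left dvd_rfl).mp hd)).symm
  -- choose the prime and the order of its Sylow subgroup
  obtain ⟨r, s, hr, hs1, hs2, hrs, hmod, hcases⟩ : ∃ r s : ℕ, r.Prime ∧ 1 ≤ s ∧ s ≤ 2 ∧
      (p + 2).factorization r = s ∧ ¬ (r ^ s) % p = 1 ∧ (r ^ s = p + 2 ∨ (r = 3 ∧ s = 1)) := by
    rcases Nat.lt_or_ge a 4 with ha4 | ha4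
    · interval_cases a
      · refine ⟨5, 1, by norm_num, le_rfl, by norm_num, ?_, ?_, Or.inl (by omega)⟩
        · rw [show p = 3 by omega, show (3 : ℕ) + 2 = 5 by norm_num,
            Nat.Prime.factorization_self (by norm_num)]
        · rw [show p = 3 by omega]; norm_num
      · refine ⟨3, 2, Nat.prime_three, by norm_num, le_rfl, ?_, ?_, Or.inl (by omega)⟩
        · rw [show p = 7 by omega, show (7 : ℕ) + 2 = 3 ^ 2 by norm_num,
            Nat.Prime.factorization_pow Nat.prime_three, Finsupp.single_eq_same]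
        · rw [show p = 7 by omega]; norm_num
    · have ha5 : 5 ≤ a := by
        rcases eq_or_lt_of_le ha4 with h | h
        · subst h; norm_num at hap
        · omega
      have hcong : ∀ k, 2 ^ (6 * k + 1) % 9 = 2 ∧ 2 ^ (6 * k + 5) % 9 = 5 := fun k => by
        rw [pow_add, pow_mul, pow_add, pow_mul, Nat.mul_mod, Nat.pow_mod,
          Nat.mul_mod ((2 ^ 6) ^ k), Nat.pow_mod (2 ^ 6)]
        norm_num
      have h6 : a % 6 = 1 ∨ a % 6 = 5 := by
        have h2 : ¬ 2 ∣ a := fun h => by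
          have := (Nat.prime_dvd_prime_iff_eq Nat.prime_two hap).mp h; omega
        have h3 : ¬ 3 ∣ a := fun h => by
          have := (Nat.prime_dvd_prime_iff_eq Nat.prime_three hap).mp h; omega
        omega
      have h9 : (p + 2) % 3 = 0 ∧ (p + 2) % 9 ≠ 0 := by
        have hk : a = 6 * (a / 6) + a % 6 := (Nat.div_add_mod a 6).symm
        have h32 : 2 ^ 5 ≤ 2 ^ a := Nat.pow_le_pow_right (by norm_num) ha5
        obtain ⟨h1, h5⟩ := hcong (a / 6)
        rcases h6 with h | h
        · rw [h] at hk; rw [← hk] at h1; omega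
        · rw [h] at hk; rw [← hk] at h5; omega
      refine ⟨3, 1, Nat.prime_three, le_rfl, by norm_num, ?_, ?_, Or.inr ⟨rfl, rfl⟩⟩
      · have h0 : p + 2 ≠ 0 := by omega
        have hle : 1 ≤ (p + 2).factorization 3 :=
          (Nat.prime_three.pow_dvd_iff_le_factorization h0).mp (by omega)
        have hlt : ¬ 2 ≤ (p + 2).factorization 3 := fun h => h9.2 (Nat.dvd_iff_mod_eq_zero.mp
          ((Nat.prime_three.pow_dvd_iff_le_factorization h0).mpr h))
        omega
      · have : 2 ^ 5 ≤ 2 ^ a := Nat.pow_le_pow_right (by norm_num) ha5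
        rw [pow_one, Nat.mod_eq_of_lt (by omega)]
        norm_num
  have := Fact.mk hr
  have hr0 : r ∣ p + 2 := (pow_one r) ▸ (Nat.Prime.pow_dvd_iff_le_factorization hr (by omega)).mpr (hrs ▸ hs1)
  have hrp : ¬ r ∣ p := fun h => by
    rw [(Nat.prime_dvd_prime_iff_eq hr D.prime).mp h] at hr0
    exact D.odd ((Nat.prime_dvd_prime_iff_eq D.prime Nat.prime_two).mp
      ((Nat.dvd_add_right dvd_rfl).mp hr0))
  have hr2 : ¬ r ∣ 2 := fun h => by
    rw [(Nat.prime_dvd_prime_iff_eq hr Nat.prime_two).mp h] at hr0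
    exact hodd hr0
  have hrp1 : ¬ r ∣ p + 1 := fun h => hr.ne_one (Nat.dvd_one.mp ((Nat.dvd_add_right h).mp hr0))
  obtain ⟨R⟩ : Nonempty (Sylow r G) := inferInstance
  have hRcard : Nat.card (R : Subgroup G) = r ^ s := by
    rw [R.card_eq_multiplicity, hcard, Nat.factorization_mul (Nat.mul_ne_zero (by omega) (by omega)) (by omega),
      Nat.factorization_mul (by omega) (by omega), Finsupp.add_apply, Finsupp.add_apply,
      Nat.factorization_eq_zero_of_not_dvd hrp, Nat.factorization_eq_zero_of_not_dvd hrp1, hrs,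
      zero_add, zero_add]
  have hRne : (R : Subgroup G) ≠ ⊥ := fun e => by
    rw [e, Subgroup.card_bot] at hRcard
    have := Nat.le_self_pow (show s ≠ 0 by omega) r
    have := hr.two_le
    omega
  set NR := normalizer ((R : Subgroup G) : Set G) with hNR
  -- no involution normalizes `R`
  have hN2 : ¬ 2 ∣ Nat.card NR := fun hd => by
    obtain ⟨⟨v, hv⟩, hvo⟩ := exists_prime_orderOf_dvd_card' (G := NR) 2 hd
    rw [Subgroup.orderOf_mk] at hvo
    have hle : zpowers v ≤ NR := zpowers_le.mpr hv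
    have hd := card_sup_dvd (A := (R : Subgroup G)) (B := zpowers v) hle
    rw [Nat.card_zpowers, hvo, hRcard] at hd
    have hpH : ¬ p ∣ Nat.card ↥((R : Subgroup G) ⊔ zpowers v) := fun h => by
      rcases D.prime.dvd_mul.mp (h.trans hd) with h1 | h1
      · exact hrp ((Nat.prime_dvd_prime_iff_eq D.prime hr).mp (D.prime.dvd_of_dvd_pow h1) ▸ dvd_rfl)
      · exact D.odd ((Nat.prime_dvd_prime_iff_eq D.prime Nat.prime_two).mp h1)
    have hH := D.mix.isPGroup D.dvd ((show 2 ∣ Nat.card (zpowers v) by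
      rw [Nat.card_zpowers, hvo]).trans (Subgroup.card_dvd_of_le le_sup_right)) hpH
    exact not_dvd_card_of_isPGroup hr (fun e => hr2 (e ▸ dvd_rfl)) hH
      ((hRcard ▸ dvd_pow_self r (by omega) : r ∣ Nat.card (R : Subgroup G)).trans
        (Subgroup.card_dvd_of_le le_sup_left))
  -- no element of order `p` normalizes `R`
  have hNp : ¬ p ∣ Nat.card NR := fun hd => by
    obtain ⟨⟨y, hy⟩, hyo⟩ := exists_prime_orderOf_dvd_card' (G := NR) p hd
    rw [Subgroup.orderOf_mk] at hyo
    have hmod' := card_modEq_inf_centralizer (p := p) ⟨1, by rw [hyo, pow_one]⟩ hy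
    have hPsyl : (Nat.card G).factorization p = 1 := by
      rw [hcard, Nat.factorization_mul (Nat.mul_ne_zero (by omega) (by omega)) (by omega),
        Nat.factorization_mul (by omega) (by omega), Finsupp.add_apply, Finsupp.add_apply,
        D.prime.factorization_self, Nat.factorization_eq_zero_of_not_dvd,
        Nat.factorization_eq_zero_of_not_dvd]
      · exact fun h => D.odd ((Nat.prime_dvd_prime_iff_eq D.prime Nat.prime_two).mp
          ((Nat.dvd_add_right dvd_rfl).mp h))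
      · exact fun h => D.prime.ne_one (Nat.dvd_one.mp ((Nat.dvd_add_right dvd_rfl).mp h))
    obtain ⟨Px, hPx⟩ := (IsPGroup.of_card (n := 1) (by
      rw [Nat.card_zpowers, D.orderOf_x hC, pow_one]) : IsPGroup p (zpowers x)).exists_le_sylow
    have hPxe : (Px : Subgroup G) = zpowers x := (Subgroup.eq_of_le_of_card_ge hPx (by
      rw [Px.card_eq_multiplicity, hPsyl, pow_one, Nat.card_zpowers, D.orderOf_x hC])).symm
    obtain ⟨Py, hPy⟩ := (IsPGroup.of_card (n := 1) (by
      rw [Nat.card_zpowers, hyo, pow_one]) : IsPGroup p (zpowers y)).exists_le_sylow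
    obtain ⟨g, hg⟩ := MulAction.exists_smul_eq G Px Py
    have hyg : g⁻¹ * y * g ∈ zpowers x := by
      have h : y ∈ ((g • Px : Sylow p G) : Subgroup G) := hg ▸ hPy (mem_zpowers y)
      rw [Sylow.coe_subgroup_smul, Subgroup.mem_pointwise_smul_iff_inv_smul_mem, hPxe, ← map_inv,
        MulAut.smul_def, MulAut.conj_apply, inv_inv] at h
      exact h
    have hy1 : g⁻¹ * y * g ≠ 1 := fun e => by
      have : y = 1 := by simpa [mul_assoc] using congrArg (fun z => g * z * g⁻¹) e
      rw [this, orderOf_one] at hyo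
      omega
    have hbot : (R : Subgroup G) ⊓ centralizer ({y} : Set G) = ⊥ := by
      rw [eq_bot_iff]
      rintro z ⟨hz, hzy⟩
      rw [Subgroup.mem_bot]
      obtain ⟨n, hn⟩ := D.x_mem_zpowers hC hyg hy1
      have hcx : Commute (g⁻¹ * z * g) x := by
        rw [← hn]
        refine Commute.zpow_right ?_ n
        have h : Commute z y := mem_centralizer_singleton_iff.mp hzy
        show g⁻¹ * z * g * (g⁻¹ * y * g) = g⁻¹ * y * g * (g⁻¹ * z * g)
        calc g⁻¹ * z * g * (g⁻¹ * y * g) = g⁻¹ * (z * y) * g := by group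
          _ = g⁻¹ * (y * z) * g := by rw [h.eq]
          _ = g⁻¹ * y * g * (g⁻¹ * z * g) := by group
      have hzx := Subgroup.orderOf_dvd_natCard _ (D.centralizer_x hC hcx)
      rw [Nat.card_zpowers, D.orderOf_x hC] at hzx
      have hzo : orderOf (g⁻¹ * z * g) = orderOf z := by
        rw [show g⁻¹ * z * g = MulAut.conj g⁻¹ z by simp, MulEquiv.orderOf_eq]
      rw [hzo] at hzx
      have hzr := Subgroup.orderOf_dvd_natCard _ hz
      rw [hRcard] at hzr
      exact orderOf_eq_one_iff.mp (Nat.eq_one_of_dvd_coprimes (Nat.Coprime.pow_left s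
        (hr.coprime_iff_not_dvd.mpr hrp)) hzr hzx)
    rw [hbot, Subgroup.card_bot, hRcard] at hmod'
    exact hmod (by rw [hmod', Nat.one_mod_eq_one.mpr (by omega)])
  have hdvd : Nat.card NR ∣ p + 2 := by
    have h := Subgroup.card_subgroup_dvd_card NR
    rw [hcard, ha] at h
    exact Nat.Coprime.dvd_of_dvd_mul_left (Nat.Coprime.mul_right
      ((D.prime.coprime_iff_not_dvd.mpr hNp).symm)
      (Nat.Coprime.pow_right a ((Nat.prime_two.coprime_iff_not_dvd.mpr hN2).symm))) h
  have hRab : ∀ a ∈ (R : Subgroup G), ∀ b ∈ (R : Subgroup G), a * b = b * a := by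
    intro a' ha' b' hb'
    obtain rfl | rfl : s = 1 ∨ s = 2 := by omega
    · have := isCyclic_of_prime_card (α := (R : Subgroup G)) (p := r) (by rw [hRcard, pow_one])
      letI := IsCyclic.commGroup (α := (R : Subgroup G))
      exact congrArg Subtype.val (mul_comm (⟨a', ha'⟩ : (R : Subgroup G)) ⟨b', hb'⟩)
    · exact congrArg Subtype.val
        (IsPGroup.commutative_of_card_eq_prime_sq hRcard ⟨a', ha'⟩ ⟨b', hb'⟩)
  have hNC : NR ≤ centralizer ((R : Subgroup G) : Set G) := by
    intro g hg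
    rcases hcases with hfull | ⟨hr3, hs⟩
    · have heq : (R : Subgroup G) = NR := Subgroup.eq_of_le_of_card_ge Subgroup.le_normalizer
        (by rw [hRcard, hfull]; exact Nat.le_of_dvd (by omega) hdvd)
      exact mem_centralizer_iff.mpr fun b hb => hRab b hb g (heq ▸ hg)
    · -- order three: `g²` centralizes, and `g` has odd order
      refine mem_centralizer_iff.mpr fun z hz => ?_
      have hgodd : ¬ 2 ∣ orderOf g := fun h =>
        hN2 (h.trans (Subgroup.orderOf_dvd_natCard NR hg))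
      have hgg : Commute (g * g) z := by
        rcases eq_or_ne z 1 with rfl | hz1
        · exact Commute.one_right _
        have hcyc : (R : Subgroup G) = zpowers z := (Subgroup.eq_of_le_of_card_ge
          (zpowers_le.mpr hz) (by
            rw [hRcard, hs, pow_one, Nat.card_zpowers]
            refine Nat.le_of_dvd (orderOf_pos z) ?_
            have hzd : orderOf z ∣ r := by
              have := Subgroup.orderOf_dvd_natCard _ hz
              rwa [hRcard, hs, pow_one] at this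
            rcases (Nat.dvd_prime hr).mp hzd with h | h
            · exact absurd (orderOf_eq_one_iff.mp h) hz1
            · rw [h])).symm
        obtain ⟨n, hn⟩ : g * z * g⁻¹ ∈ zpowers z := hcyc ▸ (Subgroup.mem_normalizer_iff.mp hg z).mp hz
        have hz3 : z ^ (3 : ℤ) = 1 := by
          have h := Subgroup.orderOf_dvd_natCard _ hz
          rw [hRcard, hs, pow_one, hr3] at h
          exact_mod_cast orderOf_dvd_iff_pow_eq_one.mp h
        have hn' : z ^ n = z ^ (n % 3) := by
          conv_lhs => rw [show n = n % 3 + 3 * (n / 3) by omega, zpow_add, zpow_mul, hz3, one_zpow, mul_one]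
        have h1 : g * g * z * (g * g)⁻¹ = z ^ ((n % 3) * (n % 3)) := by
          calc g * g * z * (g * g)⁻¹ = g * (g * z * g⁻¹) * g⁻¹ := by group
            _ = g * z ^ (n % 3) * g⁻¹ := by rw [← hn']; exact hn ▸ rfl
            _ = (g * z * g⁻¹) ^ (n % 3) := (conj_zpow).symm
            _ = z ^ ((n % 3) * (n % 3)) := by simp only at hn; rw [zpow_mul, ← hn', hn]
        rcases (show n % 3 = 0 ∨ n % 3 = 1 ∨ n % 3 = 2 by omega) with h | h | h
        · exfalso
          rw [h, mul_zero, zpow_zero] at h1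
          exact hz1 (conj_eq_one_iff.mp h1)
        · rw [h, one_mul, zpow_one] at h1
          exact mul_inv_eq_iff_eq_mul.mp h1
        · rw [h, show (2 : ℤ) * 2 = 3 + 1 from rfl, zpow_add, hz3, one_mul, zpow_one] at h1
          exact mul_inv_eq_iff_eq_mul.mp h1
      obtain ⟨m, hm⟩ := exists_pow_eq_self_of_coprime (n := 2) (x := g)
        (Nat.prime_two.coprime_iff_not_dvd.mpr hgodd)
      rw [← hm, pow_two]
      exact (hgg.pow_left m).symm.eq
  obtain ⟨S, M, hM, hc⟩ := Transfer.hasNormalPComplement_of_normalizer_le_centralizer R hNC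
  have := D.simple
  have hScard : Nat.card (S : Subgroup G) = r ^ s := by
    rw [← hRcard, S.card_eq_multiplicity, R.card_eq_multiplicity]
  rcases hM.eq_bot_or_eq_top with h | h
  · have h2 := hc.card_mul_card
    rw [h, Subgroup.card_bot, one_mul, hScard] at h2
    exact hrp ((Nat.prime_dvd_prime_iff_eq D.prime hr).mp
      (D.prime.dvd_of_dvd_pow (h2 ▸ D.dvd)) ▸ dvd_rfl)
  · have h2 := hc.card_mul_card
    rw [h, Subgroup.card_top, hScard, hcard] at h2
    have : 2 ≤ r ^ s := le_trans hr.two_le (Nat.le_self_pow (by omega) r)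
    have : 0 < p * (p + 1) * (p + 2) := by positivity
    nlinarith

end Data

end Cfsg.Agent.Lib.MixedCover
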