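import Mathlib
import Cfsg.Agent.Lib.MixedCover.SelfCentralizing
import Cfsg.Agent.Lib.MixedCover.Exceptional

/-!
Groups in which every proper subgroup of order divisible by `q`, other than a `q`-group, has
order divisible by a large prime `p`: only `p` and `q` divide the order.
-/

set_option autoImplicit false

namespace Cfsg.Agent.Lib.MixedCover

open Subgroup

universe u

variable {G : Type u} [Group G] [Finite G] {p : ℕ}

namespace Data

variable {Q : Subgroup G} {x : G}

theorem contradiction (D : Data p Q x) : False := by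
  have hQcomm : ∀ q ∈ Q, q ∈ centralizer (Q : Set G) := fun q hq =>
    mem_centralizer_iff.mpr fun s hs => (D.commute hs hq).eq
  by_cases hall : ∀ t ∈ Q, t ≠ 1 → ∀ y, Commute y t → ¬ 2 ∣ orderOf y →
      y ∈ centralizer (Q : Set G)
  · refine D.false_of_centralizes fun t ht ht1 g hg => ?_
    obtain ⟨K, -, hmem, hfac⟩ := D.exists_odd ht ht1
    obtain ⟨k, hk, q, hq, rfl⟩ := hfac g hg
    exact mul_mem (hall t ht ht1 k ((hmem k).mp hk).1 ((hmem k).mp hk).2) (hQcomm q hq)
  push Not at hall
  obtain ⟨t, ht, ht1, k₀, hk₀, hk₀', hk₀C⟩ := hall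
  have hno : ¬ (8 ≤ p + 1 ∨ ∃ e ∈ centralizer (Q : Set G), e ≠ 1 ∧ ¬ 2 ∣ orderOf e) :=
    fun h => hk₀C (D.centralizes_of_odd h ht ht1 hk₀ hk₀')
  push Not at hno
  refine D.false_of_exceptional hno.1 (fun e he he' => ?_) ht ht1 hk₀ hk₀'
    (fun e => hk₀C (e ▸ one_mem _))
  by_contra he1
  exact he' (hno.2 e he he1)

end Data

theorem isPGroup_of_eq_two_or {H : Subgroup G}
    (h : ∀ r : ℕ, r.Prime → r ∣ Nat.card H → r = 2) : IsPGroup 2 H :=
  IsPGroup.of_card (n := (Nat.card H).primeFactorsList.length)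
    (Nat.eq_prime_pow_of_unique_prime_dvd Nat.card_pos.ne' fun {r} hr hrd => h r hr hrd)

theorem mix_subgroup {q : ℕ} (hmix : Mix p q G) {H : Subgroup G} : Mix p q H := by
  intro K hK hKq hqK
  have hc : Nat.card (K.map H.subtype) = Nat.card K := Subgroup.card_subtype H K
  have h := hmix (K.map H.subtype) (fun e => hK ?_)
    (fun h => hKq (h.of_equiv (K.equivMapOfInjective H.subtype H.subtype_injective).symm))
    (by rw [hc]; exact hqK)
  · rwa [hc] at h
  · rw [eq_top_iff]
    intro z _
    obtain ⟨w, hw, hwz⟩ : (z : G) ∈ K.map H.subtype := by rw [e]; exact Subgroup.mem_top _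
    rwa [← Subtype.ext hwz]

/-- The case `q = 2`. -/
theorem twoPrimes_two (hp : p.Prime) (hp2 : p ≠ 2) :
    ∀ (n : ℕ) (G : Type u) [Group G] [Finite G], Nat.card G = n → Mix p 2 G → p ∣ Nat.card G →
      2 ∣ Nat.card G → 2 ^ (Nat.card G).factorization 2 ≤ p + 1 →
      (2 ^ (Nat.card G).factorization 2 = p + 1 → ∀ P : Sylow p G, IsMulCommutative P) →
      TwoPrimes p 2 G := by
  intro n
  induction n using Nat.strong_induction_on with
  | _ n ih =>
  intro G _ _ hn hmix hpG h2G hle hab
  have := Fact.mk Nat.prime_two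
  have := Fact.mk hp
  rcases eq_or_lt_of_le hle with heq | hlt
  swap
  · exact hmix.twoPrimes_of_lt hp hp2 hpG h2G (by
      have : 0 < 2 ^ (Nat.card G).factorization 2 := by positivity
      omega)
  intro r hr hrG
  by_contra hne
  push Not at hne
  have := Fact.mk hr
  have hab' := hab heq
  have hpgroup : ∀ U : Subgroup G, IsPGroup p U → ∀ a ∈ U, ∀ b ∈ U, a * b = b * a := by
    intro U hU a ha b hb
    obtain ⟨P, hP⟩ := hU.exists_le_sylow
    exact congrArg Subtype.val ((hab' P).is_comm.comm ⟨a, hP ha⟩ ⟨b, hP hb⟩)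
  have hsub : ∀ H : Subgroup G, H ≠ ⊤ → 2 ∣ Nat.card H → TwoPrimes p 2 H := by
    intro H hH h2H s hs hsH
    by_cases hH2 : IsPGroup 2 H
    · refine Or.inr ?_
      obtain ⟨k, hk⟩ := IsPGroup.iff_card.mp hH2
      rw [hk] at hsH
      exact (Nat.prime_dvd_prime_iff_eq hs Nat.prime_two).mp (hs.dvd_of_dvd_pow hsH)
    have hlt : Nat.card H < n := hn ▸ lt_of_le_of_ne (Subgroup.card_le_card_group H)
      (fun e => hH ((Subgroup.card_eq_iff_eq_top H).mp e))
    have hfac : 2 ^ (Nat.card H).factorization 2 ≤ p + 1 := heq ▸ Nat.pow_le_pow_right (by norm_num)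
      ((Nat.factorization_le_iff_dvd Nat.card_pos.ne' Nat.card_pos.ne').mpr
        (Subgroup.card_subgroup_dvd_card H) 2)
    refine ih _ hlt H rfl (mix_subgroup hmix) (hmix H hH hH2 h2H) h2H hfac (fun _ P => ?_) s hs hsH
    refine ⟨⟨fun a b => Subtype.ext (Subtype.ext ?_)⟩⟩
    exact hpgroup _ (P.2.map H.subtype) _ ⟨a, a.2, rfl⟩ _ ⟨b, b.2, rfl⟩
  have hodd_sup : ∀ (R : Subgroup G) (s : ℕ), s.Prime → s ≠ p → s ≠ 2 → IsPGroup s R →
      s ∣ Nat.card R → ¬ 2 ∣ Nat.card (normalizer (R : Set G)) := by
    intro R s hs hsp hs2 hR hsR hd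
    have := Fact.mk hs
    obtain ⟨⟨v, hv⟩, hvo⟩ := exists_prime_orderOf_dvd_card' (G := normalizer (R : Set G)) 2 hd
    rw [Subgroup.orderOf_mk] at hvo
    have hdvd := card_sup_dvd (A := R) (B := zpowers v) (zpowers_le.mpr hv)
    have hpH : ¬ p ∣ Nat.card ↥(R ⊔ zpowers v) := fun h => by
      rcases hp.dvd_mul.mp (h.trans hdvd) with h1 | h1
      · exact not_dvd_card_of_isPGroup hp hsp.symm hR h1
      · rw [Nat.card_zpowers, hvo] at h1
        exact hp2 ((Nat.prime_dvd_prime_iff_eq hp Nat.prime_two).mp h1)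
    have hH := hmix.isPGroup hpG ((show 2 ∣ Nat.card (zpowers v) by
      rw [Nat.card_zpowers, hvo]).trans (Subgroup.card_dvd_of_le le_sup_right)) hpH
    exact not_dvd_card_of_isPGroup hs hs2 hH (hsR.trans (Subgroup.card_dvd_of_le le_sup_left))
  have hsimple : IsSimpleGroup G := by
    have : Nontrivial G := by
      rw [← Finite.one_lt_card_iff_nontrivial]
      exact hp.one_lt.trans_le (Nat.le_of_dvd Nat.card_pos hpG)
    refine ⟨fun M hM => ?_⟩
    by_contra hM'
    push Not at hM'
    obtain ⟨hMbot, hMtop⟩ := hM'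
    -- `M` has odd order
    have hM2 : ¬ 2 ∣ Nat.card M := by
      intro h2M
      have htwo := hsub M hMtop h2M
      have hrM : ¬ r ∣ Nat.card M := fun h => (htwo r hr h).elim hne.1 hne.2
      obtain ⟨Q₁⟩ : Nonempty (Sylow 2 M) := inferInstance
      have hfr := Sylow.normalizer_sup_eq_top Q₁
      set Q' := (Q₁ : Subgroup M).map M.subtype
      have hd : Nat.card G ∣ Nat.card M * Nat.card (normalizer (Q' : Set G)) := by
        have h := card_sup_dvd (A := M) (B := normalizer (Q' : Set G))
          (by rw [normalizer_eq_top (H := M)]; exact le_top)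
        rwa [sup_comm, hfr, Subgroup.card_top] at h
      have hrN : r ∣ Nat.card (normalizer (Q' : Set G)) :=
        (hr.dvd_mul.mp (hrG.trans hd)).resolve_left hrM
      obtain ⟨⟨z, hz⟩, hzo⟩ := exists_prime_orderOf_dvd_card' (G := normalizer (Q' : Set G)) r hrN
      rw [Subgroup.orderOf_mk] at hzo
      have hQ' : Q' ≠ ⊥ := fun e => by
        have h := Q₁.dvd_card_of_dvd_card h2M
        rw [← Subgroup.card_subtype M, show (Q₁ : Subgroup M).map M.subtype = ⊥ from e,
          Subgroup.card_bot] at h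
        omega
      rcases hmix.eq_of_prime_mem_normalizer hp hp2 hpG (Q₁.2.map _) hQ' hz (hzo ▸ hr) with h | h
      · exact hne.1 (hzo.symm.trans h)
      · exact hne.2 (hzo.symm.trans h)
    -- `M` is a `p`-group
    have hMp : IsPGroup p M := by
      refine IsPGroup.of_card (n := (Nat.card M).primeFactorsList.length)
        (Nat.eq_prime_pow_of_unique_prime_dvd Nat.card_pos.ne' fun {s} hs hsd => ?_)
      by_contra hsp
      have := Fact.mk hs
      have hs2 : s ≠ 2 := fun e => hM2 (e ▸ hsd)
      obtain ⟨R⟩ : Nonempty (Sylow s M) := inferInstance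
      have hfr := Sylow.normalizer_sup_eq_top R
      set R' := (R : Subgroup M).map M.subtype
      have hd : Nat.card G ∣ Nat.card M * Nat.card (normalizer (R' : Set G)) := by
        have h := card_sup_dvd (A := M) (B := normalizer (R' : Set G))
          (by rw [normalizer_eq_top (H := M)]; exact le_top)
        rwa [sup_comm, hfr, Subgroup.card_top] at h
      refine hodd_sup R' s hs hsp hs2 (R.2.map _) ?_
        ((Nat.prime_two.dvd_mul.mp (h2G.trans hd)).resolve_left hM2)
      rw [Subgroup.card_subtype]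
      exact R.dvd_card_of_dvd_card hsd
    have hrM : ¬ r ∣ Nat.card M := not_dvd_card_of_isPGroup hr hne.1 hMp
    have hcM := M.card_mul_index
    have hrI : r ∣ M.index := (hr.dvd_mul.mp (hcM ▸ hrG)).resolve_left hrM
    have h2I : 2 ∣ M.index := (Nat.prime_two.dvd_mul.mp (hcM ▸ h2G)).resolve_left hM2
    obtain ⟨k, hk⟩ := IsPGroup.iff_card.mp hMp
    by_cases hpI : p ∣ M.index
    · -- induction on the quotient
      have hcard : Nat.card (G ⧸ M) = M.index := rfl
      have hfac : (Nat.card (G ⧸ M)).factorization 2 = (Nat.card G).factorization 2 := by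
        rw [← hcM, Nat.factorization_mul Nat.card_pos.ne' Subgroup.index_ne_zero_of_finite,
          Finsupp.add_apply, Nat.factorization_eq_zero_of_not_dvd hM2, zero_add, hcard]
      have hlt : Nat.card (G ⧸ M) < n := by
        rw [hcard, ← hn, ← hcM]
        exact lt_mul_of_one_lt_left (Nat.pos_of_ne_zero Subgroup.index_ne_zero_of_finite)
          ((Subgroup.one_lt_card_iff_ne_bot M).mpr hMbot)
      have hmix' : Mix p 2 (G ⧸ M) := by
        intro H hH hH2 h2H
        by_contra hpH
        set H' := H.comap (QuotientGroup.mk' M)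
        have hMH : M ≤ H' := fun m hm => by
          show QuotientGroup.mk' M m ∈ H
          rw [show QuotientGroup.mk' M m = 1 from (QuotientGroup.eq_one_iff m).mpr hm]
          exact one_mem H
        have hidx : (M.subgroupOf H').index = Nat.card H := by
          have h := Subgroup.relIndex_ker (QuotientGroup.mk' M) (K := H')
          rw [QuotientGroup.ker_mk',
            Subgroup.map_comap_eq_self_of_surjective (QuotientGroup.mk'_surjective M)] at h
          exact h
        have hMc : Nat.card (M.subgroupOf H') = p ^ k :=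
          (Nat.card_congr (Subgroup.subgroupOfEquivOfLe hMH).toEquiv).trans hk
        obtain ⟨L, hL⟩ := Subgroup.exists_right_complement'_of_coprime (N := M.subgroupOf H')
          (by rw [hidx, hMc]; exact Nat.Coprime.pow_left _ (hp.coprime_iff_not_dvd.mpr hpH))
        have hLc : Nat.card L = Nat.card H := by rw [← hL.symm.index_eq_card, hidx]
        have hLm : Nat.card (L.map H'.subtype) = Nat.card H := by
          rw [Subgroup.card_subtype, hLc]
        have h := hmix.isPGroup hpG (H := L.map H'.subtype) (by rw [hLm]; exact h2H)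
          (by rw [hLm]; exact hpH)
        obtain ⟨i, hi⟩ := IsPGroup.iff_card.mp h
        exact hH2 (IsPGroup.of_card (n := i) (hLm.symm.trans hi))
      have hab'' : ∀ P : Sylow p (G ⧸ M), IsMulCommutative P := by
        intro P
        have hU : IsPGroup p ↥((P : Subgroup (G ⧸ M)).comap (QuotientGroup.mk' M)) :=
          P.2.comap_of_ker_isPGroup _ (by rwa [QuotientGroup.ker_mk'])
        refine ⟨⟨fun a b => Subtype.ext ?_⟩⟩
        obtain ⟨a', ha'⟩ := QuotientGroup.mk'_surjective M (a : G ⧸ M)
        obtain ⟨b', hb'⟩ := QuotientGroup.mk'_surjective M (b : G ⧸ M)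
        show (a : G ⧸ M) * b = b * a
        rw [← ha', ← hb', ← map_mul, ← map_mul,
          hpgroup _ hU a' (show QuotientGroup.mk' M a' ∈ (P : Subgroup (G ⧸ M)) by rw [ha']; exact a.2)
            b' (show QuotientGroup.mk' M b' ∈ (P : Subgroup (G ⧸ M)) by rw [hb']; exact b.2)]
      have h := ih _ hlt (G ⧸ M) rfl hmix' (hcard ▸ hpI) (hcard ▸ h2I) (hfac ▸ hle)
        (fun _ => hab'') r hr (hcard ▸ hrI)
      exact h.elim hne.1 hne.2
    · obtain ⟨L, hL⟩ := Subgroup.exists_right_complement'_of_coprime (N := M)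
        (by rw [hk]; exact Nat.Coprime.pow_left _ (hp.coprime_iff_not_dvd.mpr hpI))
      have hLc : Nat.card L = M.index := hL.symm.index_eq_card.symm
      have hLtop : L ≠ ⊤ := fun e => hpI (by rw [← hLc, e, Subgroup.card_top]; exact hpG)
      exact ((hsub L hLtop (hLc ▸ h2I)) r hr (hLc ▸ hrI)).elim hne.1 hne.2
  have htwo : ∀ U : Subgroup G, IsPGroup 2 U → Nat.card U ≤ p + 1 := by
    intro U hU
    obtain ⟨S, hS⟩ := hU.exists_le_sylow
    rw [← heq, ← S.card_eq_multiplicity]
    exact Subgroup.card_le_of_le hS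
  -- some `p`-element acts nontrivially on a `2`-subgroup
  have hnloc : ¬ Transfer.LocallyPTrivial 2 G := fun hloc =>
    (hmix.twoPrimes_of_hasNormalPComplement hp hp2 hpG h2G
      (Transfer.hasNormalPComplement_iff_locallyPTrivial.mpr hloc) r hr hrG).elim hne.1 hne.2
  simp only [Transfer.LocallyPTrivial, not_forall] at hnloc
  obtain ⟨Q, hQ, x, hxN, hxo, hxC⟩ := hnloc
  have hQne : Q ≠ ⊥ := fun e => hxC (by
    rw [e]
    exact mem_centralizer_iff.mpr fun h hh => by simp [Subgroup.mem_bot.mp hh])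
  have hxp := hmix.exists_orderOf_eq hp hp2 hpG hQ hQne hxN hxo
  rcases centralizes_or_fpf hxp hxN (htwo Q hQ) with h | ⟨hQc, hfix⟩
  · exact hxC (mem_centralizer_iff.mpr fun q hq => mem_centralizer_singleton_iff.mp (h hq))
  exact Data.contradiction (p := p) (Q := Q) (x := x)
    { prime := hp
      odd := hp2
      mix := hmix
      dvd := hpG
      simple := hsimple
      third := ⟨r, hr, hrG, hne.1, hne.2⟩
      two_part := htwo
      abelian := hab'
      sub := hsub
      qgroup := hQ
      card := hQc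
      xpow := hxp
      xnorm := hxN
      fpf := hfix }

/-- Only `p` and `q` divide the order. -/
theorem main {q : ℕ} (hp : p.Prime) (hq : q.Prime) (hpq : p ≠ q) (hp2 : p ≠ 2)
    (hpG : p ∣ Nat.card G) (hqG : q ∣ Nat.card G) (hmix : Mix p q G)
    (hlarge : q ^ (Nat.card G).factorization q - 1 < p ∨
      (p = q ^ (Nat.card G).factorization q - 1 ∧ ∀ P : Sylow p G, IsMulCommutative P)) :
    TwoPrimes p q G := by
  have := Fact.mk hq
  rcases hlarge with hlt | ⟨heq, hab⟩
  · exact hmix.twoPrimes_of_lt hp hpq hpG hqG hlt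
  have hpos : 0 < q ^ (Nat.card G).factorization q := pow_pos hq.pos _
  have h2 : q = 2 := by
    by_contra hq2
    have ho : Odd (q ^ (Nat.card G).factorization q) := (hq.odd_of_ne_two hq2).pow
    have hpo : Odd p := hp.odd_of_ne_two hp2
    rcases ho with ⟨a, ha⟩
    rcases hpo with ⟨b, hb⟩
    omega
  subst h2
  exact twoPrimes_two hp hp2 _ G rfl hmix hpG hqG (by omega) (fun _ => hab)

end Cfsg.Agent.Lib.MixedCover
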